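import Cfsg.Agent.Lib.Suzuki.Group

/-!
# The Suzuki group: simplicity, Zassenhaus property, the ovoid
-/

set_option autoImplicit false

namespace Cfsg.Agent.Suzuki

open Matrix
open scoped Pointwise commutatorElement

variable {F : Type*} [Field F] [Fintype F] {m : ℕ}
variable (hF : Fintype.card F = 2 ^ (2 * m + 1))
include hF

theorem exists_sq (k : Fˣ) : ∃ l : Fˣ, l * l = k := by
  obtain ⟨x, hx⟩ := (Finite.injective_iff_surjective.1 fun x y h => sq_inj hF h :
    Function.Surjective fun x : F => x ^ 2) (k : F)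
  have hx0 : x ≠ 0 := by rintro rfl; exact k.ne_zero (by simpa using hx.symm)
  exact ⟨Units.mk0 x hx0, Units.ext (by simpa [pow_two] using hx)⟩

theorem eq_T_of_fix_third (hm : 1 ≤ m) (g : Cfsg.Sz F m)
    (h1 : g • Cfsg.suzukiPointInfinity F = Cfsg.suzukiPointInfinity F)
    (h2 : g • pt m (0 : F) 0 = pt m 0 0) {x y : F} (hxy : x ≠ 0 ∨ y ≠ 0)
    (h3 : g • pt m x y = pt m x y) : g = 1 := by
  obtain ⟨k, rfl⟩ := eq_T_of_fix hF hm g h1 h2
  rw [T_smul_pt] at h3
  obtain ⟨e1, e2⟩ := pt_inj h3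
  have hk : (k : F) = 1 := by
    by_cases hx : x = 0
    · have hy : y ≠ 0 := hxy.resolve_left (not_not.2 hx)
      exact eq_one_of_mul_sig hF k.ne_zero (mul_eq_right₀ hy |>.1 e2)
    · exact mul_eq_right₀ hx |>.1 e1
  rw [show k = 1 from Units.ext hk, T_one]

theorem faithful (hm : 1 ≤ m) : FaithfulSMul (Cfsg.Sz F m) (Cfsg.suzukiOvoid F m) := by
  refine ⟨fun {g h} hgh => ?_⟩
  have hp : ∀ p ∈ Cfsg.suzukiOvoid F m, (h⁻¹ * g) • p = p := fun p hp => by
    have := congrArg Subtype.val (hgh ⟨p, hp⟩)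
    rw [mul_smul, inv_smul_eq_iff]
    exact this
  exact (inv_mul_eq_one.1 (eq_T_of_fix_third hF hm _ (hp _ inf_mem_ovoid) (hp _ (pt_mem_ovoid _ _))
    (x := 1) (y := 0) (Or.inl one_ne_zero) (hp _ (pt_mem_ovoid _ _)))).symm

theorem three_fixed (hm : 1 ≤ m) (g : Cfsg.Sz F m) (a b c : Cfsg.suzukiOvoid F m) (hab : a ≠ b)
    (hbc : b ≠ c) (hac : a ≠ c) (ha : g • a = a) (hb : g • b = b) (hc : g • c = c) : g = 1 := by
  obtain ⟨h, h1, h2⟩ := exists_smul_pair hF a.2 b.2 (fun e => hab (Subtype.ext e))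
  have key : ∀ p : Cfsg.suzukiOvoid F m, g • p = p →
      (h⁻¹ * g * h) • (h⁻¹ • (p : Projectivization F (Fin 4 → F))) = h⁻¹ • (p : Projectivization F (Fin 4 → F)) := by
    intro p hp
    rw [mul_smul, mul_smul, smul_inv_smul]
    congr 1
    exact congrArg Subtype.val hp
  have e1 : h⁻¹ • (a : Projectivization F (Fin 4 → F)) = Cfsg.suzukiPointInfinity F := by
    rw [← h1, inv_smul_smul]
  have e2 : h⁻¹ • (b : Projectivization F (Fin 4 → F)) = pt m 0 0 := by rw [← h2, inv_smul_smul]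
  rcases mem_ovoid.1 (smul_mem_ovoid h⁻¹ c.2) with e3 | ⟨x, y, e3⟩
  · exact absurd (Subtype.ext (MulAction.injective h⁻¹ (e1.trans e3.symm))) hac
  have hxy : x ≠ 0 ∨ y ≠ 0 := by
    by_contra hcon
    push Not at hcon
    rw [hcon.1, hcon.2] at e3
    exact hbc (Subtype.ext (MulAction.injective h⁻¹ (e2.trans e3.symm)))
  have := eq_T_of_fix_third hF hm (h⁻¹ * g * h) (e1 ▸ key a ha) (e2 ▸ key b hb) hxy (e3 ▸ key c hc)
  rwa [mul_assoc, inv_mul_eq_one, eq_comm, mul_eq_right] at this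

theorem U_mem_commutator (hm : 1 ≤ m) (a b : F) : U hF a b ∈ commutator (Cfsg.Sz F m) := by
  obtain ⟨k, hk0, hk1⟩ := exists_ne_zero_one hF hm
  let u : Fˣ := Units.mk0 k hk0
  have hc : ∀ a b, U hF (k * a + a) (k * sig m k * b + (b + sig m a * a) + sig m (k * a) * a) ∈
      commutator (Cfsg.Sz F m) := by
    intro a b
    have h := Subgroup.commutator_mem_commutator (H₁ := (⊤ : Subgroup (Cfsg.Sz F m))) (H₂ := ⊤)
      (Subgroup.mem_top (T hF u)) (Subgroup.mem_top (U hF a b))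
    rw [← commutator_def, commutatorElement_def, T_conj_U, U_inv, U_mul] at h
    exact h
  have hne : k * sig m k + 1 ≠ 0 := fun h => hk1 (eq_one_of_mul_sig hF hk0 (eq_of_add_eq_zero hF h))
  have hne' : k + 1 ≠ 0 := fun h => hk1 (eq_of_add_eq_zero hF h)
  have hZ : ∀ c, U hF 0 c ∈ commutator (Cfsg.Sz F m) := by
    intro c
    have h := hc 0 (c / (k * sig m k + 1))
    simp only [mul_zero, add_zero, sig_zero] at h
    rwa [← add_one_mul (k * sig m k), mul_div_cancel₀ _ hne] at h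
  obtain ⟨b', hb'⟩ : ∃ b', U hF a b' ∈ commutator (Cfsg.Sz F m) := by
    have h := hc (a / (k + 1)) 0
    rw [← add_one_mul k, mul_div_cancel₀ _ hne'] at h
    exact ⟨_, h⟩
  have := mul_mem hb' (hZ (b - b'))
  rw [U_mul, mul_zero, add_zero, add_zero, add_sub_cancel] at this
  exact this

theorem commutator_eq_top (hm : 1 ≤ m) : commutator (Cfsg.Sz F m) = ⊤ := by
  set D := commutator (Cfsg.Sz F m) with hD
  have hN : D.Normal := inferInstance
  have hT : ∀ k, T hF k ∈ D := by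
    intro k
    obtain ⟨l, hl⟩ := exists_sq hF k
    have h := Subgroup.commutator_mem_commutator (H₁ := (⊤ : Subgroup (Cfsg.Sz F m))) (H₂ := ⊤)
      (Subgroup.mem_top (W hF)) (Subgroup.mem_top (T hF l⁻¹))
    rw [← commutator_def, commutatorElement_def, W_mul_T, inv_inv, mul_inv_cancel_right, T_inv,
      inv_inv, ← T_mul, hl] at h
    exact h
  have hUT : ∀ a b k, U hF a b * T hF k ∈ D := fun a b k =>
    mul_mem (U_mem_commutator hF hm a b) (hT k)
  have hW : W hF ∈ D := by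
    have hf : fz m (1 : F) 1 = 1 := by
      simp only [fz, mul_one, sig_one, one_pow]
      linear_combination two_eq_zero hF
    have hfix : W hF • pt m (1 : F) 1 = pt m 1 1 := by
      change wel F • pt m (1 : F) 1 = _
      rw [wel_smul_pt hF (by rw [hf]; exact one_ne_zero), hf, div_one]
    obtain ⟨h, hh⟩ := exists_smul_inf hF (pt m (1 : F) 1) (pt_mem_ovoid _ _)
    obtain ⟨a, b, k, e⟩ := eq_U_T_of_fix hF hm (h⁻¹ * W hF * h)
      (by rw [mul_smul, mul_smul, hh, hfix, ← hh, inv_smul_smul])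
    have h2 := hN.conj_mem _ (hUT a b k) h
    rw [← e] at h2
    simpa [mul_assoc] using h2
  rw [eq_top_iff]
  intro g _
  rcases decompose hF hm g with ⟨a, b, k, rfl⟩ | ⟨a, b, c, d, k, rfl⟩
  · exact hUT a b k
  · exact mul_mem (mul_mem (U_mem_commutator hF hm a b) hW) (hUT c d k)

/-- The group of the `M(a,b)`. -/
def USub : Subgroup (Cfsg.Sz F m) where
  carrier := {g | ∃ a b, g = U hF a b}
  one_mem' := ⟨0, 0, (U_zero hF).symm⟩
  mul_mem' := by rintro _ _ ⟨a, b, rfl⟩ ⟨c, d, rfl⟩; exact ⟨_, _, U_mul hF a b c d⟩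
  inv_mem' := by rintro _ ⟨a, b, rfl⟩; exact ⟨_, _, U_inv hF a b⟩

/-- The group of the `M(0,b)`. -/
def ZSub : Subgroup (Cfsg.Sz F m) where
  carrier := {g | ∃ b, g = U hF 0 b}
  one_mem' := ⟨0, (U_zero hF).symm⟩
  mul_mem' := by rintro _ _ ⟨b, rfl⟩ ⟨d, rfl⟩; exact ⟨b + d, by simp [U_mul, sig_zero]⟩
  inv_mem' := by rintro _ ⟨b, rfl⟩; exact ⟨b, by simp [U_inv]⟩

theorem commutator_UT_mem (a b c d : F) (k l : Fˣ) :
    ⁅U hF a b * T hF k, U hF c d * T hF l⁆ ∈ USub hF := by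
  have key : ∀ (a b c d : F) (k l : Fˣ), ∃ e f, (U hF a b * T hF k) * (U hF c d * T hF l)
      = U hF e f * T hF (k * l) := fun a b c d k l => ⟨_, _, by
    rw [mul_assoc (U hF a b), ← mul_assoc (T hF k), T_mul_U, mul_assoc, ← T_mul, ← mul_assoc, U_mul]⟩
  obtain ⟨e, f, h1⟩ := key a b c d k l
  obtain ⟨e', f', h2⟩ := key c d a b l k
  have : ⁅U hF a b * T hF k, U hF c d * T hF l⁆
      = (U hF a b * T hF k) * (U hF c d * T hF l) * ((U hF c d * T hF l) * (U hF a b * T hF k))⁻¹ := by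
    rw [commutatorElement_def]; group
  rw [this, h1, h2, mul_comm l k]
  rw [_root_.mul_inv_rev, mul_assoc, mul_inv_cancel_left, U_inv, U_mul]
  exact ⟨_, _, rfl⟩

theorem commutator_U_mem (a b c d : F) : ⁅U hF a b, U hF c d⁆ ∈ ZSub hF := by
  have : ⁅U hF a b, U hF c d⁆ = U hF a b * U hF c d * (U hF c d * U hF a b)⁻¹ := by
    rw [commutatorElement_def]; group
  rw [this, U_mul, U_mul, U_inv, U_mul, add_comm c a, add_self hF]
  exact ⟨_, rfl⟩

theorem isSimpleGroup (hm : 1 ≤ m) : IsSimpleGroup (Cfsg.Sz F m) := by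
  have hfaith := faithful hF hm
  have hnt : Nontrivial (Cfsg.Sz F m) := by
    obtain ⟨k, hk0, hk1⟩ := exists_ne_zero_one hF hm
    exact ⟨T hF (Units.mk0 k hk0), T hF 1, fun h => hk1 (congrArg Units.val (T_inj hF h))⟩
  refine ⟨fun N hN => ?_⟩
  by_contra hcon
  push Not at hcon
  obtain ⟨hbot, htop⟩ := hcon
  obtain ⟨n, hn, hn1⟩ := (Subgroup.ne_bot_iff_exists_ne_one.1 hbot) |> fun ⟨⟨n, hn⟩, h⟩ =>
    (⟨n, hn, fun e => h (Subtype.ext e)⟩ : ∃ n ∈ N, n ≠ 1)
  obtain ⟨p, hp⟩ : ∃ p : Cfsg.suzukiOvoid F m, n • p ≠ p := by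
    by_contra h
    push Not at h
    exact hn1 (hfaith.eq_of_smul_eq_smul fun p => by rw [h p, one_smul])
  have h2 : ∀ {a b c d : Cfsg.suzukiOvoid F m}, a ≠ b → c ≠ d →
      ∃ g : Cfsg.Sz F m, g • a = c ∧ g • b = d :=
    (MulAction.is_two_pretransitive_iff).1 (two_pretransitive hF)
  let x : Cfsg.suzukiOvoid F m := ⟨_, inf_mem_ovoid⟩
  -- every coset of `N` meets the stabiliser of `∞`
  have hcos : ∀ g : Cfsg.Sz F m, ∃ a b k, (QuotientGroup.mk' N) g
      = (QuotientGroup.mk' N) (U hF a b * T hF k) := by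
    intro g
    obtain ⟨n', hn', hn'x⟩ : ∃ n' ∈ N, n' • x = g • x := by
      by_cases hgx : g • x = x
      · exact ⟨1, one_mem _, by rw [one_smul, hgx]⟩
      · obtain ⟨h, h1, h2'⟩ := h2 hp.symm (Ne.symm hgx)
        exact ⟨h * n * h⁻¹, hN.conj_mem n hn h,
          by rw [mul_smul, mul_smul, ← h2', ← h1, inv_smul_smul]⟩
    obtain ⟨a, b, k, e⟩ := eq_U_T_of_fix hF hm (n'⁻¹ * g) (by
      have := congrArg Subtype.val (show (n'⁻¹ * g) • x = x by rw [mul_smul, inv_smul_eq_iff, hn'x])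
      exact this)
    refine ⟨a, b, k, ?_⟩
    rw [← e, map_mul, map_inv, (QuotientGroup.eq_one_iff n').2 hn' |> fun h =>
      (show QuotientGroup.mk' N n' = 1 from h), inv_one, one_mul]
  have hperf : commutator (Cfsg.Sz F m ⧸ N) = ⊤ := by
    rw [eq_top_iff, ← MonoidHom.range_eq_top.2 (QuotientGroup.mk'_surjective N),
      MonoidHom.range_eq_map, ← commutator_eq_top hF hm, commutator_def, Subgroup.map_commutator]
    exact Subgroup.commutator_mono le_top le_top
  -- first step: the image of `USub` is everything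
  have step1 : ∀ q : Cfsg.Sz F m ⧸ N, q ∈ (USub hF).map (QuotientGroup.mk' N) := by
    intro q
    have hle : commutator (Cfsg.Sz F m ⧸ N) ≤ (USub hF).map (QuotientGroup.mk' N) := by
      rw [commutator_def, Subgroup.commutator_le]
      intro y _ z _
      obtain ⟨g, rfl⟩ := QuotientGroup.mk'_surjective N y
      obtain ⟨g', rfl⟩ := QuotientGroup.mk'_surjective N z
      obtain ⟨a, b, k, e⟩ := hcos g
      obtain ⟨c, d, l, e'⟩ := hcos g'
      rw [e, e', ← map_commutatorElement]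
      exact Subgroup.mem_map_of_mem _ (commutator_UT_mem hF a b c d k l)
    exact hle (hperf ▸ Subgroup.mem_top q)
  have step2 : ∀ q : Cfsg.Sz F m ⧸ N, q ∈ (ZSub hF).map (QuotientGroup.mk' N) := by
    intro q
    have hle : commutator (Cfsg.Sz F m ⧸ N) ≤ (ZSub hF).map (QuotientGroup.mk' N) := by
      rw [commutator_def, Subgroup.commutator_le]
      intro y _ z _
      obtain ⟨-, ⟨a, b, rfl⟩, rfl⟩ := step1 y
      obtain ⟨-, ⟨c, d, rfl⟩, rfl⟩ := step1 z
      rw [← map_commutatorElement]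
      exact Subgroup.mem_map_of_mem _ (commutator_U_mem hF a b c d)
    exact hle (hperf ▸ Subgroup.mem_top q)
  have hbot' : commutator (Cfsg.Sz F m ⧸ N) = ⊥ := by
    rw [commutator_def, eq_bot_iff, Subgroup.commutator_le]
    intro y _ z _
    obtain ⟨-, ⟨b, rfl⟩, rfl⟩ := step2 y
    obtain ⟨-, ⟨d, rfl⟩, rfl⟩ := step2 z
    rw [Subgroup.mem_bot, commutatorElement_eq_one_iff_mul_comm, ← map_mul, ← map_mul, U_mul, U_mul,
      add_comm b d, sig_zero]
  have : (⊤ : Subgroup (Cfsg.Sz F m ⧸ N)) = ⊥ := hperf ▸ hbot'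
  have hnt' : Nontrivial (Cfsg.Sz F m ⧸ N) := QuotientGroup.nontrivial_iff.2 htop
  exact top_ne_bot this

theorem isZassenhausGroup (hm : 1 ≤ m) :
    Cfsg.IsZassenhausGroup (Cfsg.Sz F m) (Cfsg.suzukiOvoid F m) := by
  have hsimple := isSimpleGroup hF hm
  obtain ⟨k, hk0, hk1⟩ := exists_ne_zero_one hF hm
  have hTne : T hF (Units.mk0 k hk0) ≠ 1 := fun h =>
    hk1 (congrArg Units.val (T_inj hF (h.trans (T_one hF).symm)))
  let x : Cfsg.suzukiOvoid F m := ⟨_, inf_mem_ovoid⟩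
  let y : Cfsg.suzukiOvoid F m := ⟨_, pt_mem_ovoid (0 : F) 0⟩
  have hTx : T hF (Units.mk0 k hk0) • x = x := Subtype.ext (T_smul_inf hF _)
  refine ⟨faithful hF hm, two_pretransitive hF, three_fixed hF hm,
    ⟨T hF (Units.mk0 k hk0), hTne, x, y, fun h => pt_ne_inf (m := m) (0 : F) 0
      (congrArg Subtype.val h).symm, hTx, Subtype.ext (T_smul_zero hF _)⟩, fun N hN htr => ?_⟩
  refine ⟨x, fun hbot => ?_⟩
  rcases hN.eq_bot_or_eq_top with rfl | rfl
  · obtain ⟨⟨g, hg⟩, hgy⟩ := htr.exists_smul_eq x y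
    obtain rfl : g = 1 := hg
    have hxy : x = y := by rw [← hgy]; exact (one_smul _ x).symm
    exact pt_ne_inf (m := m) (0 : F) 0 (congrArg Subtype.val hxy).symm
  · apply hTne
    have hmem : (⟨T hF (Units.mk0 k hk0), Subgroup.mem_top _⟩ : (⊤ : Subgroup (Cfsg.Sz F m))) ∈
        MulAction.stabilizer (⊤ : Subgroup (Cfsg.Sz F m)) x := hTx
    rw [hbot, Subgroup.mem_bot] at hmem
    exact congrArg Subtype.val hmem

omit hF [Fintype F] in
theorem linearIndependent_smul_iff {ι : Type*} (g : Matrix.SpecialLinearGroup (Fin 4) F)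
    (v : ι → Fin 4 → F) :
    LinearIndependent F (fun i => g • v i) ↔ LinearIndependent F v :=
  (g.toLin'.toLinearMap).linearIndependent_iff (LinearMap.ker_eq_bot.2 g.toLin'.injective)

theorem ovoid_independent (p : Fin 3 ↪ Cfsg.suzukiOvoid F m) :
    Projectivization.Independent (fun i => (p i : Projectivization F (Fin 4 → F))) := by
  obtain ⟨g, h1, h2⟩ := exists_smul_pair hF (p 0).2 (p 1).2
    (fun h => Fin.zero_ne_one (p.injective (Subtype.ext h)))
  rcases mem_ovoid.1 (smul_mem_ovoid g⁻¹ (p 2).2) with h3 | ⟨x, y, h3⟩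
  · rw [← h3, smul_inv_smul] at h1
    exact absurd (p.injective (Subtype.ext h1)) (by decide)
  rw [inv_smul_eq_iff] at h3
  have hxy : x ≠ 0 ∨ y ≠ 0 := by
    by_contra hcon
    push Not at hcon
    rw [hcon.1, hcon.2, h2] at h3
    exact absurd (p.injective (Subtype.ext h3)) (by decide)
  set v : Fin 3 → Fin 4 → F := ![![1, 0, 0, 0], pv m 0 0, pv m x y] with hv
  have hv0 : ∀ i, v i ≠ 0 := by
    intro i; fin_cases i
    · intro h; simpa [hv] using congrFun h 0
    · exact pv_ne_zero _ _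
    · exact pv_ne_zero _ _
  have hgv : ∀ i, (g : Matrix.SpecialLinearGroup (Fin 4) F) • v i ≠ 0 :=
    fun i => (smul_ne_zero_iff_ne _).2 (hv0 i)
  have hli : LinearIndependent F v := by
    rw [Fintype.linearIndependent_iff]
    intro c hc
    have e3 := congrFun hc 3
    have e0 := congrFun hc 0
    have e1 := congrFun hc 1
    have e2 := congrFun hc 2
    simp [hv, pv, Fin.sum_univ_three, fz, sig_zero] at e0 e1 e2 e3
    have hc2 : c 2 = 0 := by
      rcases hxy with h | h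
      · exact e2.resolve_right h
      · exact e1.resolve_right h
    intro i
    fin_cases i
    · simpa [hc2] using e0
    · simpa [hc2] using e3
    · exact hc2
  have heq : (fun i => (p i : Projectivization F (Fin 4 → F)))
      = fun i => Projectivization.mk F ((g : Matrix.SpecialLinearGroup (Fin 4) F) • v i) (hgv i) := by
    funext i
    fin_cases i
    · exact h1.symm
    · exact h2.symm
    · exact h3
  rw [heq]
  exact Projectivization.Independent.mk _ hgv ((linearIndependent_smul_iff _ v).2 hli)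

end Cfsg.Agent.Suzuki
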