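import Cfsg.Agent.Lib.Suzuki.Simple

/-!
# The Sylow 2-subgroups of the Suzuki group
-/

set_option autoImplicit false

namespace Cfsg.Agent.Suzuki

open scoped commutatorElement

variable {F : Type*} [Field F] [Fintype F] {m : ℕ}
variable (hF : Fintype.card F = 2 ^ (2 * m + 1))
include hF

theorem U_mem_USub (a b : F) : U hF a b ∈ USub hF := ⟨a, b, rfl⟩

/-- `USub` is parametrised by `F × F`. -/
noncomputable def USubEquiv : F × F ≃ USub hF :=
  Equiv.ofBijective (fun p => ⟨U hF p.1 p.2, U_mem_USub hF p.1 p.2⟩)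
    ⟨fun p q h => by
      obtain ⟨h1, h2⟩ := U_inj hF (congrArg Subtype.val h)
      exact Prod.ext h1 h2,
     fun g => by
      obtain ⟨a, b, e⟩ := g.2
      exact ⟨(a, b), Subtype.ext e.symm⟩⟩

theorem card_USub : Nat.card (USub hF) = (2 ^ (2 * m + 1)) ^ 2 := by
  rw [← Nat.card_congr (USubEquiv hF), Nat.card_prod, Nat.card_eq_fintype_card, hF, pow_two]

theorem isPGroup_USub : IsPGroup 2 (USub hF) :=
  IsPGroup.of_card (n := (2 * m + 1) * 2) (by rw [card_USub, ← pow_mul])

theorem index_USub_odd (hm : 1 ≤ m) : ¬ 2 ∣ (USub hF).index := by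
  have h := (USub hF).index_mul_card
  rw [card_USub, card_Sz hF hm, mul_assoc, mul_comm ((2 ^ (2 * m + 1)) ^ 2)] at h
  have h2 : (USub hF).index = ((2 ^ (2 * m + 1)) ^ 2 + 1) * (2 ^ (2 * m + 1) - 1) :=
    Nat.eq_of_mul_eq_mul_right (by positivity) h
  rw [h2]
  have h1 : 1 ≤ 2 ^ (2 * m + 1) := Nat.one_le_pow _ _ (by norm_num)
  have he : Even (2 ^ (2 * m + 1)) := by simp [Nat.even_pow]
  rw [← even_iff_two_dvd, Nat.not_even_iff_odd]
  exact Odd.mul ((he.pow_of_ne_zero (by norm_num)).add_one) (Nat.Even.sub_odd h1 he odd_one)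

theorem exponent_USub : Monoid.exponent (USub hF) = 4 := by
  set g : USub hF := ⟨U hF 1 0, U_mem_USub hF 1 0⟩
  have hsq : ∀ a b : F, U hF a b * U hF a b = U hF 0 (sig m a * a) := fun a b => by
    rw [U_mul, add_self hF, add_self hF, zero_add]
  have hq4 : ∀ a b : F, U hF a b ^ (2 * 2) = 1 := fun a b => by
    rw [pow_mul, pow_two, pow_two, hsq, hsq, sig_zero, zero_mul, U_zero]
  apply Nat.dvd_antisymm
  · refine Monoid.exponent_dvd_of_forall_pow_eq_one fun ⟨x, hx⟩ => Subtype.ext ?_
    obtain ⟨a, b, rfl⟩ := hx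
    exact hq4 a b
  · have h4 : orderOf g = 2 ^ (1 + 1) := by
      refine orderOf_eq_prime_pow ?_ ?_
      · intro h
        have h' : U hF (1 : F) 0 ^ 2 = 1 := congrArg Subtype.val h
        rw [pow_two, hsq, ← U_zero hF] at h'
        exact one_ne_zero (α := F) (by simpa [sig_one] using (U_inj hF h').2)
      · refine Subtype.ext ?_
        exact hq4 1 0
    have h := Monoid.order_dvd_exponent g
    rwa [h4] at h

theorem center_USub (hm : 1 ≤ m) :
    Subgroup.center (USub hF) = (ZSub hF).subgroupOf (USub hF) := by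
  ext ⟨x, hx⟩
  rw [Subgroup.mem_center_iff, Subgroup.mem_subgroupOf]
  obtain ⟨a, b, rfl⟩ := hx
  constructor
  · intro h
    have hcomm : ∀ c : F, sig m c * a = sig m a * c := fun c => by
      have := congrArg Subtype.val (h ⟨U hF c 0, U_mem_USub hF c 0⟩)
      change U hF c 0 * U hF a b = U hF a b * U hF c 0 at this
      rw [U_mul, U_mul] at this
      linear_combination (U_inj hF this).2
    have h1 : sig m a = a := by simpa [sig_one] using (hcomm 1).symm
    rcases eq_zero_or_one_of_sig_eq hF h1 with rfl | rfl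
    · exact ⟨b, rfl⟩
    · exfalso
      obtain ⟨k, hk0, hk1⟩ := exists_ne_zero_one hF hm
      have := hcomm k
      rw [mul_one, sig_one, one_mul] at this
      rcases eq_zero_or_one_of_sig_eq hF this with h | h
      · exact hk0 h
      · exact hk1 h
  · rintro ⟨b', e⟩ ⟨y, hy⟩
    obtain ⟨c, d, rfl⟩ := hy
    obtain ⟨rfl, -⟩ := U_inj hF e
    refine Subtype.ext ?_
    change U hF c d * U hF 0 b = U hF 0 b * U hF c d
    rw [U_mul, U_mul]
    congr 1
    · rw [add_comm]
    · rw [sig_zero]; ring

theorem commutator_USub (hm : 1 ≤ m) :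
    commutator (USub hF) = (ZSub hF).subgroupOf (USub hF) := by
  apply le_antisymm
  · rw [commutator_def, Subgroup.commutator_le]
    rintro ⟨x, a, b, rfl⟩ _ ⟨y, c, d, rfl⟩ _
    exact commutator_U_mem hF a b c d
  · rintro ⟨x, hx⟩ h
    rw [Subgroup.mem_subgroupOf] at h
    obtain ⟨t, rfl⟩ : ∃ t, x = U hF 0 t := h
    have hgen : ∀ a c : F, (⟨U hF 0 (sig m a * c + sig m c * a), U_mem_USub hF _ _⟩ : USub hF) ∈
        commutator (USub hF) := by
      intro a c
      have h := Subgroup.commutator_mem_commutator (H₁ := (⊤ : Subgroup (USub hF))) (H₂ := ⊤)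
        (Subgroup.mem_top ⟨U hF a 0, U_mem_USub hF a 0⟩) (Subgroup.mem_top ⟨U hF c 0, U_mem_USub hF c 0⟩)
      rw [← commutator_def] at h
      convert h using 1
      refine Subtype.ext ?_
      change U hF 0 (sig m a * c + sig m c * a) = ⁅U hF a 0, U hF c 0⁆
      rw [commutatorElement_def, show U hF a 0 * U hF c 0 * (U hF a 0)⁻¹ * (U hF c 0)⁻¹
        = U hF a 0 * U hF c 0 * (U hF c 0 * U hF a 0)⁻¹ by group, U_mul, U_mul, U_inv, U_mul]
      congr 1
      · rw [add_comm c a, add_self hF]
      · simp only [sig_add hF]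
        linear_combination -((sig m a + sig m c) * (a + c)) * two_eq_zero hF
    obtain ⟨k, hk0, hk1⟩ := exists_ne_zero_one hF hm
    have hne : sig m k + k ≠ 0 := fun h =>
      (eq_zero_or_one_of_sig_eq hF (eq_of_add_eq_zero hF h)).elim hk0 hk1
    -- scale by `s` with `σ(s) s = t / (σ k + k)`
    obtain ⟨s, hs⟩ := (Finite.injective_iff_surjective.1 (fun x y h => by
      by_cases hx : x = 0
      · subst hx
        simp only [zero_mul] at h
        rcases mul_eq_zero.1 h.symm with hy | hy
        · exact hy.symm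
        · exact (sig_eq_zero.1 hy).symm
      · by_cases hy : y = 0
        · subst hy
          simp only [zero_mul] at h
          rcases mul_eq_zero.1 h with h' | h'
          · exact h'
          · exact absurd (sig_eq_zero.1 h') hx
        · have h' : (x * y⁻¹) * sig m (x * y⁻¹) = 1 := by
            rw [sig_mul, sig_inv]
            calc x * y⁻¹ * (sig m x * (sig m y)⁻¹) = (x * sig m x) * (y * sig m y)⁻¹ := by
                  rw [mul_inv]; ring
              _ = 1 := by
                  rw [show x * sig m x = y * sig m y from h]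
                  exact mul_inv_cancel₀ (mul_ne_zero hy (sig_ne_zero hy))
          have h2 := eq_one_of_mul_sig hF (mul_ne_zero hx (inv_ne_zero hy)) h'
          rw [← div_eq_mul_inv, div_eq_one_iff_eq hy] at h2
          exact h2) : Function.Surjective fun x : F => x * sig m x) (t / (sig m k + k))
    have := hgen (s * k) s
    convert this using 1
    refine Subtype.ext ?_
    change U hF 0 t = U hF 0 (sig m (s * k) * s + sig m s * (s * k))
    congr 1
    rw [eq_div_iff hne] at hs
    rw [sig_mul, ← hs]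
    ring

theorem card_ZSub : Nat.card (ZSub hF) = 2 ^ (2 * m + 1) := by
  rw [← hF, ← Nat.card_eq_fintype_card]
  refine (Nat.card_congr (Equiv.ofBijective
    (fun b => (⟨U hF 0 b, b, rfl⟩ : ZSub hF)) ⟨fun b b' h => ?_, fun g => ?_⟩)).symm
  · exact (U_inj hF (congrArg Subtype.val h)).2
  · obtain ⟨b, e⟩ := g.2
    exact ⟨b, Subtype.ext e.symm⟩

theorem sylow_two (hm : 1 ≤ m) (P : Sylow 2 (Cfsg.Sz F m)) :
    Nat.card P = (2 ^ (2 * m + 1)) ^ 2 ∧ Monoid.exponent P = 4 ∧
      Subgroup.center P = commutator P ∧ Nat.card (Subgroup.center P) = 2 ^ (2 * m + 1) := by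
  haveI : Fact (Nat.Prime 2) := ⟨Nat.prime_two⟩
  let S := (isPGroup_USub hF).toSylow (index_USub_odd hF hm)
  have hS : (S : Subgroup (Cfsg.Sz F m)) = USub hF := IsPGroup.toSylow_coe _ _
  let e : P ≃* USub hF := (Sylow.equiv P S).trans (MulEquiv.subgroupCongr hS)
  have hZle : ZSub hF ≤ USub hF := fun x ⟨b, hb⟩ => ⟨0, b, hb⟩
  refine ⟨(Nat.card_congr e.toEquiv).trans (card_USub hF),
    (Monoid.exponent_eq_of_mulEquiv e).trans (exponent_USub hF), ?_, ?_⟩
  · apply Subgroup.map_injective (f := e.toMonoidHom) e.injective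
    rw [show (commutator P).map e.toMonoidHom = commutator (USub hF) by
        rw [commutator_def, commutator_def, Subgroup.map_commutator,
          ← MonoidHom.range_eq_map, MonoidHom.range_eq_top.2 e.surjective],
      commutator_USub hF hm, ← center_USub hF hm]
    ext y
    rw [Subgroup.mem_map]
    constructor
    · rintro ⟨x, hx, rfl⟩
      rw [Subgroup.mem_center_iff] at hx ⊢
      intro z
      obtain ⟨w, rfl⟩ := e.surjective z
      change e w * e x = e x * e w
      rw [← map_mul, ← map_mul, hx w]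
    · intro hy
      refine ⟨e.symm y, ?_, e.apply_symm_apply y⟩
      rw [Subgroup.mem_center_iff] at hy ⊢
      intro w
      apply e.injective
      rw [map_mul, map_mul, e.apply_symm_apply, hy]
  · rw [Nat.card_congr (Subgroup.centerCongr e).toEquiv, center_USub hF hm,
      Nat.card_congr (Subgroup.subgroupOfEquivOfLe hZle).toEquiv, card_ZSub]

end Cfsg.Agent.Suzuki
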