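import Cfsg.Agent.Lib.Suzuki.Basic

/-!
# The Suzuki group: action on the ovoid, stabilisers, order, simplicity
-/

set_option autoImplicit false

namespace Cfsg.Agent.Suzuki

open Matrix
open scoped Pointwise

variable {F : Type*} [Field F] [Fintype F] {m : ℕ}
variable (hF : Fintype.card F = 2 ^ (2 * m + 1))
include hF

theorem finite_ovoid : (Cfsg.suzukiOvoid F m).Finite := Set.toFinite _

omit hF in
theorem mem_Sz_of_mapsTo {g : Matrix.SpecialLinearGroup (Fin 4) F}
    (h : ∀ p ∈ Cfsg.suzukiOvoid F m, g • p ∈ Cfsg.suzukiOvoid F m) : g ∈ Cfsg.Sz F m := by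
  rw [MulAction.mem_stabilizer_iff]
  refine Set.eq_of_subset_of_ncard_le ?_ (le_of_eq ?_) (Set.toFinite _)
  · rintro _ ⟨p, hp, rfl⟩
    exact h p hp
  · exact (Set.ncard_image_of_injective _ (MulAction.injective g)).symm

theorem uel_mem (a b : F) : uel m a b ∈ Cfsg.Sz F m := by
  refine mem_Sz_of_mapsTo fun p hp => ?_
  rcases mem_ovoid.1 hp with rfl | ⟨x, y, rfl⟩
  · rw [uel_smul_inf]; exact inf_mem_ovoid
  · rw [uel_smul_pt hF]; exact pt_mem_ovoid _ _

theorem tel_mem (k : Fˣ) : tel m k ∈ Cfsg.Sz F m := by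
  refine mem_Sz_of_mapsTo fun p hp => ?_
  rcases mem_ovoid.1 hp with rfl | ⟨x, y, rfl⟩
  · rw [tel_smul_inf]; exact inf_mem_ovoid
  · rw [tel_smul_pt hF]; exact pt_mem_ovoid _ _

theorem wel_mem : wel F ∈ Cfsg.Sz F m := by
  refine mem_Sz_of_mapsTo fun p hp => ?_
  rcases mem_ovoid.1 hp with rfl | ⟨x, y, rfl⟩
  · rw [wel_smul_inf (m := m)]; exact pt_mem_ovoid _ _
  · by_cases h : fz m x y = 0
    · obtain ⟨rfl, rfl⟩ := (fz_eq_zero hF).1 h
      rw [wel_smul_zero]; exact inf_mem_ovoid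
    · rw [wel_smul_pt hF h]; exact pt_mem_ovoid _ _

/-- `M(a,b)` in the Suzuki group. -/
def U (a b : F) : Cfsg.Sz F m := ⟨uel m a b, uel_mem hF a b⟩

/-- The torus element in the Suzuki group. -/
def T (k : Fˣ) : Cfsg.Sz F m := ⟨tel m k, tel_mem hF k⟩

/-- The swapping involution in the Suzuki group. -/
def W : Cfsg.Sz F m := ⟨wel F, wel_mem hF⟩

theorem U_mul (a b c d : F) : U hF a b * U hF c d = U hF (a + c) (b + d + sig m a * c) := by
  apply Subtype.ext
  apply Subtype.ext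
  change umat m a b * umat m c d = umat m (a + c) (b + d + sig m a * c)
  have h1 : fz m (a + c) (b + d + sig m a * c)
      = fz m c d + a * d + (b + a * sig m a) * c + fz m a b := by
    rw [add_comm a c, add_comm b d, fz_add hF]
  ext i j
  fin_cases i <;> fin_cases j <;>
    simp [umat, Matrix.mul_apply, Fin.sum_univ_four, h1, sig_add hF] <;> ring_nf
  all_goals simp [two_eq_zero hF]

theorem U_zero : U hF (0 : F) 0 = 1 := by
  apply Subtype.ext
  apply Subtype.ext
  change umat m (0 : F) 0 = 1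
  ext i j
  fin_cases i <;> fin_cases j <;> simp [umat, fz, sig_zero]

theorem U_inj {a b c d : F} (h : U hF a b = U hF c d) : a = c ∧ b = d := by
  have h' : umat m a b = umat m c d := congrArg (fun g : Cfsg.Sz F m =>
    ((g : Matrix.SpecialLinearGroup (Fin 4) F) : Matrix (Fin 4) (Fin 4) F)) h
  exact ⟨by simpa [umat] using congrFun (congrFun h' 0) 1,
    by simpa [umat] using congrFun (congrFun h' 1) 3⟩

theorem U_inv (a b : F) : (U hF a b)⁻¹ = U hF a (b + sig m a * a) := by
  rw [inv_eq_iff_mul_eq_one, U_mul, ← U_zero hF]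
  congr 1
  · exact add_self hF a
  · linear_combination (b + sig m a * a) * two_eq_zero hF

theorem T_mul (k l : Fˣ) : T hF (k * l) = T hF k * T hF l := by
  apply Subtype.ext
  apply Subtype.ext
  change Matrix.diagonal _ = Matrix.diagonal _ * Matrix.diagonal _
  rw [Matrix.diagonal_mul_diagonal]
  congr 1
  ext i
  fin_cases i <;> simp [rho_mul] <;> ring

theorem T_inj {k l : Fˣ} (h : T hF k = T hF l) : k = l := by
  have h' : (tel m k : Matrix (Fin 4) (Fin 4) F) = tel m l := congrArg (fun g : Cfsg.Sz F m =>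
    ((g : Matrix.SpecialLinearGroup (Fin 4) F) : Matrix (Fin 4) (Fin 4) F)) h
  have h0 : rho m (k : F) * k = rho m (l : F) * l := by simpa [tel] using congrFun (congrFun h' 0) 0
  have h1 : rho m (k : F) = rho m (l : F) := by simpa [tel] using congrFun (congrFun h' 1) 1
  rw [h1] at h0
  exact Units.ext (mul_left_cancel₀ (rho_ne_zero l.ne_zero) h0)

/-- The torus as a homomorphism. -/
def THom : Fˣ →* Cfsg.Sz F m := MonoidHom.mk' (T hF) (T_mul hF)

theorem T_one : T hF (1 : Fˣ) = 1 := map_one (THom hF)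

theorem T_inv (k : Fˣ) : T hF k⁻¹ = (T hF k)⁻¹ := map_inv (THom hF) k

theorem T_mul_U (k : Fˣ) (a b : F) :
    T hF k * U hF a b = U hF (k * a) (k * sig m (k : F) * b) * T hF k := by
  apply Subtype.ext
  apply Subtype.ext
  have hk := k.ne_zero
  have hr : rho m (k : F) ≠ 0 := rho_ne_zero hk
  change (tel m k : Matrix (Fin 4) (Fin 4) F) * umat m a b
    = umat m (k * a) (k * sig m (k : F) * b) * (tel m k : Matrix (Fin 4) (Fin 4) F)
  ext i j
  fin_cases i <;> fin_cases j <;>
    simp [umat, tel, Matrix.mul_apply, Fin.sum_univ_four, fz_scale hF, sig_mul]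
  all_goals (try rw [← rho_sq (m := m) (k : F)])
  all_goals field_simp

theorem T_conj_U (k : Fˣ) (a b : F) :
    T hF k * U hF a b * (T hF k)⁻¹ = U hF (k * a) (k * sig m (k : F) * b) := by
  rw [T_mul_U, mul_inv_cancel_right]

theorem W_mul_T (k : Fˣ) : W hF * T hF k = T hF k⁻¹ * W hF := by
  apply Subtype.ext
  apply Subtype.ext
  have hk := k.ne_zero
  change (wel F : Matrix (Fin 4) (Fin 4) F) * (tel m k : Matrix (Fin 4) (Fin 4) F)
    = (tel m k⁻¹ : Matrix (Fin 4) (Fin 4) F) * (wel F : Matrix (Fin 4) (Fin 4) F)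
  ext i j
  fin_cases i <;> fin_cases j <;>
    simp [wel, tel, Matrix.mul_apply, Fin.sum_univ_four, rho, inv_pow, mul_comm]

theorem W_mul_W : W hF * W hF = 1 := by
  apply Subtype.ext
  apply Subtype.ext
  change (wel F : Matrix (Fin 4) (Fin 4) F) * (wel F : Matrix (Fin 4) (Fin 4) F) = 1
  ext i j
  fin_cases i <;> fin_cases j <;> simp [wel, Matrix.mul_apply, Fin.sum_univ_four]

omit hF in
theorem smul_mem_ovoid (g : Cfsg.Sz F m) {p : Projectivization F (Fin 4 → F)}
    (hp : p ∈ Cfsg.suzukiOvoid F m) : g • p ∈ Cfsg.suzukiOvoid F m := by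
  have h : (g : Matrix.SpecialLinearGroup (Fin 4) F) • Cfsg.suzukiOvoid F m
      = Cfsg.suzukiOvoid F m := g.2
  rw [← h]
  exact Set.smul_mem_smul_set hp

theorem U_smul_inf (a b : F) :
    U hF a b • Cfsg.suzukiPointInfinity F = Cfsg.suzukiPointInfinity F := uel_smul_inf a b

theorem U_smul_pt (a b x y : F) :
    U hF a b • pt m x y = pt m (x + a) (y + b + sig m a * x) := uel_smul_pt hF a b x y

theorem U_smul_zero (a b : F) : U hF a b • pt m (0 : F) 0 = pt m a b := by
  rw [U_smul_pt]; simp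

theorem T_smul_inf (k : Fˣ) :
    T hF k • Cfsg.suzukiPointInfinity F = Cfsg.suzukiPointInfinity F := tel_smul_inf k

theorem T_smul_pt (k : Fˣ) (x y : F) :
    T hF k • pt m x y = pt m ((k : F) * x) ((k : F) * sig m (k : F) * y) := tel_smul_pt hF k x y

theorem T_smul_zero (k : Fˣ) : T hF k • pt m (0 : F) 0 = pt m 0 0 := by
  rw [T_smul_pt]; simp

theorem W_smul_inf : W hF • Cfsg.suzukiPointInfinity F = pt m 0 0 := wel_smul_inf

theorem W_smul_zero : W hF • pt m (0 : F) 0 = Cfsg.suzukiPointInfinity F := wel_smul_zero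

theorem coeff_eq_zero (hm : 1 ≤ m) {c₁ c₂ c₃ c₄ : F}
    (h : ∀ x : F, c₁ * x + c₂ * x ^ 2 + c₃ * sig m x + c₄ * (sig m x * x ^ 2) = 0) :
    c₁ = 0 ∧ c₂ = 0 ∧ c₃ = 0 ∧ c₄ = 0 := by
  classical
  set s := 2 ^ (m + 1) with hs
  have hs4 : 4 ≤ s := by
    have := Nat.pow_le_pow_right (show 0 < 2 by norm_num) (show 2 ≤ m + 1 by omega)
    simpa [hs] using this
  have hq : s + 2 < Fintype.card F := by
    rw [hF, show 2 * m + 1 = (m + 1) + m by ring, pow_add, ← hs]
    have := Nat.pow_le_pow_right (show 0 < 2 by norm_num) (show 1 ≤ m from hm)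
    norm_num at this
    nlinarith
  set p : Polynomial F := .C c₁ * .X + .C c₂ * .X ^ 2 + .C c₃ * .X ^ s + .C c₄ * .X ^ (s + 2) with hp
  have hd : p.natDegree < Fintype.card F := by
    refine lt_of_le_of_lt ?_ hq
    rw [hp]
    refine Polynomial.natDegree_add_le_of_degree_le (Polynomial.natDegree_add_le_of_degree_le
      (Polynomial.natDegree_add_le_of_degree_le ?_ ?_) ?_) ?_
    · exact (Polynomial.natDegree_C_mul_le _ _).trans (by simp)
    · exact (Polynomial.natDegree_C_mul_X_pow_le c₂ 2).trans (by omega)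
    · exact (Polynomial.natDegree_C_mul_X_pow_le c₃ s).trans (by omega)
    · exact Polynomial.natDegree_C_mul_X_pow_le c₄ (s + 2)
  have h0 : p = 0 := Polynomial.eq_zero_of_natDegree_lt_card_of_eval_eq_zero p
    Function.injective_id (fun x => by
      simp only [hp, id_eq, Polynomial.eval_add, Polynomial.eval_mul, Polynomial.eval_C,
        Polynomial.eval_pow, Polynomial.eval_X, pow_add]
      simpa [sig, hs] using h x) hd
  have hc : ∀ n, p.coeff n = 0 := fun n => by simp [h0]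
  have e1 := hc 1
  have e2 := hc 2
  have e3 := hc s
  have e4 := hc (s + 2)
  simp only [hp, Polynomial.coeff_add, Polynomial.coeff_C_mul, Polynomial.coeff_X_pow,
    Polynomial.coeff_X] at e1 e2 e3 e4
  have a1 : s ≠ 1 := by omega
  have a2 : s ≠ 2 := by omega
  have a3 : (1 : ℕ) ≠ s := by omega
  have a4 : (2 : ℕ) ≠ s := by omega
  have a5 : s ≠ 0 := by omega
  simp [a2, a3, a4, a5] at e1 e2 e3 e4
  exact ⟨e1, e2, e3, e4⟩

/-- An element fixing both base points lies in the torus. -/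
theorem eq_T_of_fix (hm : 1 ≤ m) (g : Cfsg.Sz F m)
    (h1 : g • Cfsg.suzukiPointInfinity F = Cfsg.suzukiPointInfinity F)
    (h2 : g • pt m (0 : F) 0 = pt m 0 0) : ∃ k, g = T hF k := by
  set A : Matrix (Fin 4) (Fin 4) F := (g : Matrix.SpecialLinearGroup (Fin 4) F).1 with hA
  obtain ⟨α, hα⟩ : ∃ α : F, α • ![1, 0, 0, 0] = A *ᵥ ![1, 0, 0, 0] :=
    (Projectivization.mk_eq_mk_iff' F _ _ _ _).1 h1
  obtain ⟨δ, hδ⟩ : ∃ δ : F, δ • pv m (0 : F) 0 = A *ᵥ pv m (0 : F) 0 :=
    (Projectivization.mk_eq_mk_iff' F _ _ _ _).1 h2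
  have c0 : A 0 0 = α ∧ A 1 0 = 0 ∧ A 2 0 = 0 ∧ A 3 0 = 0 :=
    ⟨by simpa [Matrix.mulVec, dotProduct, Fin.sum_univ_four] using (congrFun hα 0).symm,
     by simpa [Matrix.mulVec, dotProduct, Fin.sum_univ_four] using (congrFun hα 1).symm,
     by simpa [Matrix.mulVec, dotProduct, Fin.sum_univ_four] using (congrFun hα 2).symm,
     by simpa [Matrix.mulVec, dotProduct, Fin.sum_univ_four] using (congrFun hα 3).symm⟩
  have c3 : A 0 3 = 0 ∧ A 1 3 = 0 ∧ A 2 3 = 0 ∧ A 3 3 = δ :=
    ⟨by simpa [pv, fz, sig_zero, Matrix.mulVec, dotProduct, Fin.sum_univ_four] using (congrFun hδ 0).symm,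
     by simpa [pv, fz, sig_zero, Matrix.mulVec, dotProduct, Fin.sum_univ_four] using (congrFun hδ 1).symm,
     by simpa [pv, fz, sig_zero, Matrix.mulVec, dotProduct, Fin.sum_univ_four] using (congrFun hδ 2).symm,
     by simpa [pv, fz, sig_zero, Matrix.mulVec, dotProduct, Fin.sum_univ_four] using (congrFun hδ 3).symm⟩
  obtain ⟨a00, a10, a20, a30⟩ := c0
  obtain ⟨a03, a13, a23, a33⟩ := c3
  -- the image of an affine point
  have himg : ∀ x y : F, ∃ c x' y' : F, c ≠ 0 ∧
      α * fz m x y + A 0 1 * y + A 0 2 * x = c * fz m x' y' ∧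
      A 1 1 * y + A 1 2 * x = c * y' ∧ A 2 1 * y + A 2 2 * x = c * x' ∧
      A 3 1 * y + A 3 2 * x + δ = c := by
    intro x y
    rcases mem_ovoid.1 (smul_mem_ovoid g (pt_mem_ovoid (m := m) x y)) with h | ⟨x', y', h⟩
    · rw [← h1] at h
      exact absurd (MulAction.injective g h) (pt_ne_inf x y)
    · obtain ⟨c, hc⟩ : ∃ c : F, c • pv m x' y' = A *ᵥ pv m x y :=
        (Projectivization.mk_eq_mk_iff' F _ _ _ _).1 h
      refine ⟨c, x', y', ?_, ?_, ?_, ?_, ?_⟩
      · rintro rfl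
        rw [zero_smul] at hc
        have hinj := (g : Matrix.SpecialLinearGroup (Fin 4) F).toLin'.injective
        have : (g : Matrix.SpecialLinearGroup (Fin 4) F).toLin' (pv m x y)
            = (g : Matrix.SpecialLinearGroup (Fin 4) F).toLin' 0 := by
          rw [map_zero]; exact hc.symm
        exact pv_ne_zero x y (hinj this)
      · simpa [pv, Matrix.mulVec, dotProduct, Fin.sum_univ_four, a00, a03] using (congrFun hc 0).symm
      · simpa [pv, Matrix.mulVec, dotProduct, Fin.sum_univ_four, a10, a13] using (congrFun hc 1).symm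
      · simpa [pv, Matrix.mulVec, dotProduct, Fin.sum_univ_four, a20, a23] using (congrFun hc 2).symm
      · simpa [pv, Matrix.mulVec, dotProduct, Fin.sum_univ_four, a30, a33] using (congrFun hc 3).symm
  have hδ0 : δ ≠ 0 := by
    obtain ⟨c, -, -, hc, -, -, -, e⟩ := himg 0 0
    rw [← e] at hc
    simpa using hc
  have a31 : A 3 1 = 0 := by
    by_contra hne
    obtain ⟨c, -, -, hc, -, -, -, e⟩ := himg 0 (-δ / A 3 1)
    apply hc
    rw [← e]; field_simp; ring
  have a32 : A 3 2 = 0 := by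
    by_contra hne
    obtain ⟨c, -, -, hc, -, -, -, e⟩ := himg (-δ / A 3 2) 0
    apply hc
    rw [← e]; field_simp; ring
  set cA := α / δ with hcA
  set cB := A 0 1 / δ with hcB
  set cC := A 0 2 / δ with hcC
  set cD := A 1 1 / δ with hcD
  set cE := A 1 2 / δ with hcE
  set cG := A 2 1 / δ with hcG
  set cH := A 2 2 / δ with hcH
  have key : ∀ x y : F, fz m (cG * y + cH * x) (cD * y + cE * x)
      = cA * fz m x y + cB * y + cC * x := by
    intro x y
    obtain ⟨c, x', y', -, e0, e1, e2, e3⟩ := himg x y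
    rw [a31, a32] at e3
    have hcd : c = δ := by rw [← e3]; ring
    subst hcd
    have hx' : x' = cG * y + cH * x := by
      rw [hcG, hcH]; field_simp; linear_combination -e2
    have hy' : y' = cD * y + cE * x := by
      rw [hcD, hcE]; field_simp; linear_combination -e1
    rw [← hx', ← hy', hcA, hcB, hcC]
    field_simp
    linear_combination -e0
  obtain ⟨hB, hGD, hDA, hG⟩ := coeff_eq_zero hF hm (c₁ := -cB) (c₂ := cG * cD)
    (c₃ := sig m cD - cA) (c₄ := sig m cG * cG ^ 2) (fun y => by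
      have := key 0 y
      simp only [fz, mul_zero, add_zero, sig_mul, sig_zero] at this
      linear_combination this)
  obtain ⟨hC, hHE, hE, hHA⟩ := coeff_eq_zero hF hm (c₁ := -cC) (c₂ := cH * cE)
    (c₃ := sig m cE) (c₄ := sig m cH * cH ^ 2 - cA) (fun x => by
      have := key x 0
      simp only [fz, mul_zero, add_zero, zero_add, sig_mul, sig_zero] at this
      linear_combination this)
  have hG0 : cG = 0 := by
    rcases mul_eq_zero.1 hG with h | h
    · exact sig_eq_zero.1 h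
    · exact pow_eq_zero_iff (n := 2) (by norm_num) |>.1 h
  have hE0 : cE = 0 := sig_eq_zero.1 hE
  rw [neg_eq_zero] at hB hC
  rw [sub_eq_zero] at hDA hHA
  have hHD : cH * cD = cA := by
    have := key 1 1
    simp only [hG0, hE0, hB, hC, fz, mul_one, zero_mul, add_zero, zero_add, sig_one, one_pow] at this
    linear_combination this - hDA - hHA + cA * two_eq_zero hF - cA * two_eq_zero hF
  have a21 : A 2 1 = 0 := by simpa [hcG, hδ0] using hG0
  have a12 : A 1 2 = 0 := by simpa [hcE, hδ0] using hE0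
  have a01 : A 0 1 = 0 := by simpa [hcB, hδ0] using hB
  have a02 : A 0 2 = 0 := by simpa [hcC, hδ0] using hC
  have hdet : α * A 1 1 * A 2 2 * δ = 1 := by
    have := (g : Matrix.SpecialLinearGroup (Fin 4) F).2
    rw [show ((g : Matrix.SpecialLinearGroup (Fin 4) F).1) = Matrix.diagonal ![α, A 1 1, A 2 2, δ] by
      ext i j
      fin_cases i <;> fin_cases j <;>
        simp [← hA, a00, a10, a20, a30, a03, a13, a23, a33, a01, a02, a12, a21, a31, a32],
      Matrix.det_diagonal] at this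
    simpa [Fin.prod_univ_four] using this
  have hα0 : α ≠ 0 := fun h => by simp [h] at hdet
  have hH0 : cH ≠ 0 := fun h => by
    rw [h, zero_mul, hcA] at hHD
    exact hα0 (by simpa [hδ0] using hHD.symm)
  have hD' : cD = sig m cH * cH :=
    mul_left_cancel₀ hH0 (by rw [hHD, ← hHA]; ring)
  have hδk : δ * (rho m cH * cH) = 1 := by
    apply sq_inj hF; apply sq_inj hF
    have e : α * A 1 1 * A 2 2 * δ = cA * cD * cH * δ ^ 4 := by
      rw [hcA, hcD, hcH]; field_simp
    rw [hdet, ← hHA, hD', ← rho_sq] at e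
    linear_combination -e
  refine ⟨Units.mk0 cH hH0, Subtype.ext (Subtype.ext ?_)⟩
  have hr : rho m cH ≠ 0 := rho_ne_zero hH0
  have e00 : α = rho m cH * cH := by
    have : α = cA * δ := by rw [hcA]; field_simp
    rw [this, ← hHA, ← rho_sq]
    linear_combination rho m cH * cH * hδk
  have e11 : A 1 1 = rho m cH := by
    have : A 1 1 = cD * δ := by rw [hcD]; field_simp
    rw [this, hD', ← rho_sq]
    linear_combination rho m cH * hδk
  have e22 : A 2 2 = (rho m cH)⁻¹ := by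
    have : A 2 2 = cH * δ := by rw [hcH]; field_simp
    rw [this]
    field_simp
    linear_combination hδk
  have e33 : δ = (rho m cH * cH)⁻¹ := eq_inv_of_mul_eq_one_left hδk
  change A = Matrix.diagonal _
  ext i j
  fin_cases i <;> fin_cases j <;>
    simp [a00, a10, a20, a30, a03, a13, a23, a33, a01, a02, a12, a21, a31, a32, e00, e11, e22, e33]

/-- An element fixing `∞` is `M(a,b) T(k)`. -/
theorem eq_U_T_of_fix (hm : 1 ≤ m) (g : Cfsg.Sz F m)
    (h1 : g • Cfsg.suzukiPointInfinity F = Cfsg.suzukiPointInfinity F) :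
    ∃ a b k, g = U hF a b * T hF k := by
  rcases mem_ovoid.1 (smul_mem_ovoid g (pt_mem_ovoid (m := m) (0 : F) 0)) with h | ⟨a, b, h⟩
  · rw [← h1] at h
    exact absurd (MulAction.injective g h) (pt_ne_inf _ _)
  obtain ⟨k, hk⟩ := eq_T_of_fix hF hm ((U hF a b)⁻¹ * g)
    (by rw [mul_smul, h1, inv_smul_eq_iff, U_smul_inf])
    (by rw [mul_smul, h, inv_smul_eq_iff, U_smul_zero])
  exact ⟨a, b, k, by rw [← hk, mul_inv_cancel_left]⟩

theorem U_T_inj {a b c d : F} {k l : Fˣ} (h : U hF a b * T hF k = U hF c d * T hF l) :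
    a = c ∧ b = d ∧ k = l := by
  have h2 := congrArg (fun g : Cfsg.Sz F m => g • pt m (0 : F) 0) h
  simp only [mul_smul, T_smul_zero hF, U_smul_zero hF] at h2
  obtain ⟨rfl, rfl⟩ := pt_inj h2
  exact ⟨rfl, rfl, T_inj hF (mul_left_cancel h)⟩

/-- The stabiliser of `∞`, parametrised. -/
noncomputable def stabEquiv (hm : 1 ≤ m) :
    (F × F) × Fˣ ≃ MulAction.stabilizer (Cfsg.Sz F m) (Cfsg.suzukiPointInfinity F) :=
  Equiv.ofBijective (fun p => ⟨U hF p.1.1 p.1.2 * T hF p.2, by
      rw [MulAction.mem_stabilizer_iff, mul_smul, T_smul_inf, U_smul_inf]⟩)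
    ⟨fun p q h => by
      obtain ⟨h1, h2, h3⟩ := U_T_inj hF (congrArg Subtype.val h)
      exact Prod.ext (Prod.ext h1 h2) h3,
     fun g => by
      obtain ⟨a, b, k, e⟩ := eq_U_T_of_fix hF hm g.1 g.2
      exact ⟨((a, b), k), Subtype.ext e.symm⟩⟩

theorem card_stabilizer_inf (hm : 1 ≤ m) :
    Nat.card (MulAction.stabilizer (Cfsg.Sz F m) (Cfsg.suzukiPointInfinity F))
      = (2 ^ (2 * m + 1)) ^ 2 * (2 ^ (2 * m + 1) - 1) := by
  rw [← Nat.card_congr (stabEquiv hF hm), Nat.card_prod, Nat.card_prod, Nat.card_units,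
    Nat.card_eq_fintype_card, hF, pow_two]

theorem torus_stabilizer (hm : 1 ≤ m) :
    Nonempty (↥(MulAction.stabilizer (Cfsg.Sz F m) (Cfsg.suzukiPointInfinity F) ⊓
        MulAction.stabilizer (Cfsg.Sz F m) (Cfsg.suzukiPointZero F)) ≃* Fˣ) := by
  have hmem : ∀ k, T hF k ∈ MulAction.stabilizer (Cfsg.Sz F m) (Cfsg.suzukiPointInfinity F) ⊓
      MulAction.stabilizer (Cfsg.Sz F m) (Cfsg.suzukiPointZero F) := fun k =>
    ⟨T_smul_inf hF k, by
      change T hF k • Cfsg.suzukiPointZero F = Cfsg.suzukiPointZero F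
      rw [← pt_zero (m := m), T_smul_zero]⟩
  refine ⟨(MulEquiv.ofBijective ((THom hF).codRestrict _ hmem) ⟨?_, ?_⟩).symm⟩
  · intro k l h
    exact T_inj hF (congrArg Subtype.val h)
  · rintro ⟨g, hg1, hg2⟩
    obtain ⟨k, hk⟩ := eq_T_of_fix hF hm g hg1 (by rw [pt_zero]; exact hg2)
    exact ⟨k, Subtype.ext hk.symm⟩

/-- `∞` is moved to every ovoid point. -/
theorem exists_smul_inf (p : Projectivization F (Fin 4 → F)) (hp : p ∈ Cfsg.suzukiOvoid F m) :
    ∃ g : Cfsg.Sz F m, g • Cfsg.suzukiPointInfinity F = p := by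
  rcases mem_ovoid.1 hp with rfl | ⟨x, y, rfl⟩
  · exact ⟨1, one_smul _ _⟩
  · exact ⟨U hF x y * W hF, by rw [mul_smul, W_smul_inf, U_smul_zero]⟩

/-- Two distinct ovoid points are the images of the base points. -/
theorem exists_smul_pair {p r : Projectivization F (Fin 4 → F)} (hp : p ∈ Cfsg.suzukiOvoid F m)
    (hr : r ∈ Cfsg.suzukiOvoid F m) (hne : p ≠ r) :
    ∃ g : Cfsg.Sz F m, g • Cfsg.suzukiPointInfinity F = p ∧ g • pt m (0 : F) 0 = r := by
  obtain ⟨g, hg⟩ := exists_smul_inf hF p hp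
  rcases mem_ovoid.1 (smul_mem_ovoid g⁻¹ hr) with h | ⟨x, y, h⟩
  · exact absurd (by rw [← hg, ← h, smul_inv_smul]) hne
  · exact ⟨g * U hF x y, by rw [mul_smul, U_smul_inf, hg],
      by rw [mul_smul, U_smul_zero, ← h, smul_inv_smul]⟩

theorem two_pretransitive :
    MulAction.IsMultiplyPretransitive (Cfsg.Sz F m) (Cfsg.suzukiOvoid F m) 2 := by
  rw [MulAction.is_two_pretransitive_iff]
  intro a b c d hab hcd
  obtain ⟨g, hga, hgb⟩ := exists_smul_pair hF a.2 b.2 (fun h => hab (Subtype.ext h))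
  obtain ⟨g', hgc, hgd⟩ := exists_smul_pair hF c.2 d.2 (fun h => hcd (Subtype.ext h))
  refine ⟨g' * g⁻¹, Subtype.ext ?_, Subtype.ext ?_⟩
  · change (g' * g⁻¹) • (a : Projectivization F (Fin 4 → F)) = c
    rw [← hga, mul_smul, inv_smul_smul, hgc]
  · change (g' * g⁻¹) • (b : Projectivization F (Fin 4 → F)) = d
    rw [← hgb, mul_smul, inv_smul_smul, hgd]

theorem card_Sz (hm : 1 ≤ m) :
    Nat.card (Cfsg.Sz F m)
      = (2 ^ (2 * m + 1)) ^ 2 * ((2 ^ (2 * m + 1)) ^ 2 + 1) * (2 ^ (2 * m + 1) - 1) := by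
  have := two_pretransitive hF
  have : MulAction.IsPretransitive (Cfsg.Sz F m) (Cfsg.suzukiOvoid F m) :=
    MulAction.isPretransitive_of_is_two_pretransitive
  let x : Cfsg.suzukiOvoid F m := ⟨_, inf_mem_ovoid⟩
  have hst : MulAction.stabilizer (Cfsg.Sz F m) x
      = MulAction.stabilizer (Cfsg.Sz F m) (Cfsg.suzukiPointInfinity F) := by
    ext g; simp only [MulAction.mem_stabilizer_iff, Subtype.ext_iff]; rfl
  rw [← Subgroup.index_mul_card (MulAction.stabilizer (Cfsg.Sz F m) x),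
    MulAction.index_stabilizer_of_transitive, hst, card_stabilizer_inf hF hm, card_ovoid, hF]
  ring

theorem decompose (hm : 1 ≤ m) (g : Cfsg.Sz F m) :
    (∃ a b k, g = U hF a b * T hF k) ∨
      ∃ a b c d k, g = U hF a b * W hF * (U hF c d * T hF k) := by
  rcases mem_ovoid.1 (smul_mem_ovoid g (inf_mem_ovoid (m := m))) with h | ⟨a, b, h⟩
  · exact Or.inl (eq_U_T_of_fix hF hm g h)
  · obtain ⟨c, d, k, e⟩ := eq_U_T_of_fix hF hm ((U hF a b * W hF)⁻¹ * g)
      (by rw [mul_smul, h, inv_smul_eq_iff, mul_smul, W_smul_inf, U_smul_zero])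
    exact Or.inr ⟨a, b, c, d, k, by rw [← e, mul_inv_cancel_left]⟩

theorem preserves_form (hm : 1 ≤ m) (g : Cfsg.Sz F m) :
    ((g : Matrix.SpecialLinearGroup (Fin 4) F) : Matrix (Fin 4) (Fin 4) F).transpose
        * Cfsg.suzukiForm F * ((g : Matrix.SpecialLinearGroup (Fin 4) F) : Matrix (Fin 4) (Fin 4) F)
      = Cfsg.suzukiForm F := by
  have key : ∀ {A B : Matrix (Fin 4) (Fin 4) F}, A.transpose * Cfsg.suzukiForm F * A = Cfsg.suzukiForm F →
      B.transpose * Cfsg.suzukiForm F * B = Cfsg.suzukiForm F →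
      (A * B).transpose * Cfsg.suzukiForm F * (A * B) = Cfsg.suzukiForm F := by
    intro A B hA hB
    calc (A * B).transpose * Cfsg.suzukiForm F * (A * B)
        = B.transpose * (A.transpose * Cfsg.suzukiForm F * A) * B := by
          rw [Matrix.transpose_mul]; simp only [Matrix.mul_assoc]
      _ = Cfsg.suzukiForm F := by rw [hA, hB]
  have hU : ∀ a b, (umat m a b).transpose * Cfsg.suzukiForm F * umat m a b = Cfsg.suzukiForm F := by
    intro a b
    ext i j
    fin_cases i <;> fin_cases j <;>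
      simp [umat, Cfsg.suzukiForm, Matrix.mul_apply, Fin.sum_univ_four]
    all_goals ring_nf
    all_goals simp [two_eq_zero hF]
  have hT : ∀ k : Fˣ, (tel m k : Matrix (Fin 4) (Fin 4) F).transpose * Cfsg.suzukiForm F
      * (tel m k : Matrix (Fin 4) (Fin 4) F) = Cfsg.suzukiForm F := by
    intro k
    have hr : rho m (k : F) ≠ 0 := rho_ne_zero k.ne_zero
    have := k.ne_zero
    ext i j
    fin_cases i <;> fin_cases j <;>
      simp [tel, Cfsg.suzukiForm, Matrix.mul_apply, Fin.sum_univ_four] <;> field_simp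
  have hW : (wel F : Matrix (Fin 4) (Fin 4) F).transpose * Cfsg.suzukiForm F
      * (wel F : Matrix (Fin 4) (Fin 4) F) = Cfsg.suzukiForm F := by
    ext i j
    fin_cases i <;> fin_cases j <;>
      simp [wel, Cfsg.suzukiForm, Matrix.mul_apply, Fin.sum_univ_four]
  rcases decompose hF hm g with ⟨a, b, k, rfl⟩ | ⟨a, b, c, d, k, rfl⟩
  · exact key (hU a b) (hT k)
  · exact key (key (hU a b) hW) (key (hU c d) (hT k))

end Cfsg.Agent.Suzuki
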