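import Cfsg.Agent.Lib.Suzuki.Centralizers

/-!
# The tori of order `q ± 2r + 1` of the Suzuki group, by counting
-/

set_option autoImplicit false

namespace Cfsg.Agent.Suzuki

section TI

variable {G : Type*} [Group G]

/-- The conjugates of the non-identity elements of `H`. -/
def cls (H : Subgroup G) : Set G := {g | ∃ u ∈ H, u ≠ 1 ∧ ∃ h, h * u * h⁻¹ = g}

theorem ncard_cls [Finite G] (H : Subgroup G)
    (hTI : ∀ h u, u ∈ H → u ≠ 1 → h * u * h⁻¹ ∈ H → h ∈ Subgroup.normalizer (H : Set G)) :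
    (cls H).ncard * Nat.card (Subgroup.normalizer (H : Set G))
      = (Nat.card H - 1) * Nat.card G := by
  classical
  have hc : ∀ g : cls H, ∃ h u, u ∈ H ∧ u ≠ 1 ∧ h * u * h⁻¹ = (g : G) := fun g => by
    obtain ⟨u, hu, hu1, h, e⟩ := g.2
    exact ⟨h, u, hu, hu1, e⟩
  choose h₀ u₀ hu₀ hu₀1 he₀ using hc
  have hnorm : ∀ n ∈ Subgroup.normalizer (H : Set G), ∀ u ∈ H, n⁻¹ * u * n ∈ H := by
    intro n hn u hu
    have := (Subgroup.mem_normalizer_iff.1 (inv_mem hn) u).1 hu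
    simpa using this
  let e : G × {u : H // u ≠ 1} ≃ cls H × Subgroup.normalizer (H : Set G) :=
    { toFun := fun p =>
        let g : cls H := ⟨p.1 * ((p.2.1 : H) : G) * p.1⁻¹, p.2.1, p.2.1.2,
          fun h => p.2.2 (Subtype.ext h), p.1, rfl⟩
        (g, ⟨(h₀ g)⁻¹ * p.1, by
          refine hTI _ ((p.2.1 : H) : G) p.2.1.2 (fun h => p.2.2 (Subtype.ext h)) ?_
          have h3 := he₀ g
          change _ = p.1 * ((p.2.1 : H) : G) * p.1⁻¹ at h3
          have h4 : (h₀ g)⁻¹ * p.1 * ((p.2.1 : H) : G) * ((h₀ g)⁻¹ * p.1)⁻¹ = u₀ g := by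
            rw [show (h₀ g)⁻¹ * p.1 * ((p.2.1 : H) : G) * ((h₀ g)⁻¹ * p.1)⁻¹
              = (h₀ g)⁻¹ * (p.1 * ((p.2.1 : H) : G) * p.1⁻¹) * h₀ g by group, ← h3]
            group
          rw [h4]
          exact hu₀ g⟩)
      invFun := fun q => (h₀ q.1 * (q.2 : G),
        ⟨⟨(q.2 : G)⁻¹ * u₀ q.1 * q.2, hnorm _ q.2.2 _ (hu₀ q.1)⟩, fun h => hu₀1 q.1 (by
          have := congrArg Subtype.val h
          simpa [mul_assoc] using congrArg (fun t => (q.2 : G) * t * (q.2 : G)⁻¹) this)⟩)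
      left_inv := fun p => by
        apply Prod.ext
        · simp only [mul_inv_cancel_left]
        · refine Subtype.ext (Subtype.ext ?_)
          simp only
          set g : cls H := ⟨p.1 * ((p.2.1 : H) : G) * p.1⁻¹, p.2.1, p.2.1.2,
            fun h => p.2.2 (Subtype.ext h), p.1, rfl⟩
          have h3 := he₀ g
          change _ = p.1 * ((p.2.1 : H) : G) * p.1⁻¹ at h3
          calc ((h₀ g)⁻¹ * p.1)⁻¹ * u₀ g * ((h₀ g)⁻¹ * p.1)
              = p.1⁻¹ * (h₀ g * u₀ g * (h₀ g)⁻¹) * p.1 := by group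
            _ = ((p.2.1 : H) : G) := by rw [h3]; group
      right_inv := fun q => by
        have hg : (⟨h₀ q.1 * (q.2 : G) * ((q.2 : G)⁻¹ * u₀ q.1 * q.2) * (h₀ q.1 * (q.2 : G))⁻¹,
            (q.2 : G)⁻¹ * u₀ q.1 * q.2, hnorm _ q.2.2 _ (hu₀ q.1), fun h => hu₀1 q.1 (by
            simpa [mul_assoc] using congrArg (fun t => (q.2 : G) * t * (q.2 : G)⁻¹) h), _, rfl⟩ : cls H)
            = q.1 := by
          refine Subtype.ext ?_
          conv_rhs => rw [← he₀ q.1]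
          change h₀ q.1 * (q.2 : G) * ((q.2 : G)⁻¹ * u₀ q.1 * q.2) * (h₀ q.1 * (q.2 : G))⁻¹ = _
          group
        apply Prod.ext
        · exact hg
        · refine Subtype.ext ?_
          simp only
          rw [hg, inv_mul_cancel_left] }
  have h1 := Nat.card_congr e
  rw [Nat.card_prod, Nat.card_prod, Nat.card_coe_set_eq] at h1
  have h2 : Nat.card {u : H // u ≠ 1} = Nat.card H - 1 := by
    haveI := Fintype.ofFinite H
    rw [Nat.card_eq_fintype_card, Nat.card_eq_fintype_card, Fintype.card_subtype_compl,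
      Fintype.card_subtype_eq]
  rw [← h1, h2, mul_comm]

end TI

variable {F : Type*} [Field F] [Fintype F] {m : ℕ} (hF : Fintype.card F = 2 ^ (2 * m + 1))
include hF

/-- The torus is the range of `THom`. -/
theorem card_range_T : Nat.card (THom hF).range = Fintype.card F - 1 := by
  rw [← Nat.card_congr (MonoidHom.ofInjective (f := THom hF) (fun a b h => T_inj hF h)).toEquiv,
    Nat.card_units, Nat.card_eq_fintype_card]

theorem swap_of_conj_T (hm : 1 ≤ m) {h : Cfsg.Sz F m} {k k' : Fˣ} (hk : k ≠ 1)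
    (e : h * T hF k * h⁻¹ = T hF k') :
    (∃ l, h = T hF l) ∨ ∃ l, h = W hF * T hF l := by
  have hk' : k' ≠ 1 := fun h' => hk (T_inj hF (by
    rw [T_one]; rw [h', T_one] at e; exact conj_eq_one_iff.1 e))
  have key : ∀ p ∈ Cfsg.suzukiOvoid F m, T hF k • p = p →
      h • p = Cfsg.suzukiPointInfinity F ∨ h • p = pt m 0 0 := by
    intro p hp hTp
    have : T hF k' • (h • p) = h • p := by rw [← e, mul_smul, mul_smul, inv_smul_smul, hTp]
    rcases T_fix hF (smul_mem_ovoid h hp) this with e | e | e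
    · exact Or.inl e
    · exact Or.inr e
    · exact absurd e hk'
  rcases key _ inf_mem_ovoid (T_smul_inf hF k) with e1 | e1 <;>
    rcases key _ (pt_mem_ovoid 0 0) (T_smul_zero hF k) with e2 | e2
  · exact absurd (MulAction.injective h (e1.trans e2.symm)) (pt_ne_inf 0 0).symm
  · exact Or.inl (eq_T_of_fix hF hm h e1 e2)
  · obtain ⟨l, hl⟩ := eq_T_of_fix hF hm (W hF * h) (by rw [mul_smul, e1, W_smul_zero])
      (by rw [mul_smul, e2, W_smul_inf])
    exact Or.inr ⟨l, by rw [← hl, ← mul_assoc, W_mul_W, one_mul]⟩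
  · exact absurd (MulAction.injective h (e1.trans e2.symm)) (pt_ne_inf 0 0).symm

theorem W_inv : (W hF)⁻¹ = W hF := inv_eq_of_mul_eq_one_right (W_mul_W hF)

theorem T_mem_normalizer (l : Fˣ) :
    T hF l ∈ Subgroup.normalizer ((THom hF).range : Set (Cfsg.Sz F m)) :=
  Subgroup.le_normalizer ⟨l, rfl⟩

theorem W_mem_normalizer : W hF ∈ Subgroup.normalizer ((THom hF).range : Set (Cfsg.Sz F m)) := by
  rw [Subgroup.mem_normalizer_iff]
  intro x
  constructor
  · rintro ⟨k, rfl⟩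
    refine ⟨k⁻¹, ?_⟩
    change T hF k⁻¹ = W hF * T hF k * (W hF)⁻¹
    rw [W_mul_T, mul_inv_cancel_right]
  · rintro ⟨k, e⟩
    refine ⟨k⁻¹, ?_⟩
    change T hF k⁻¹ = x
    change T hF k = W hF * x * (W hF)⁻¹ at e
    have h2 : x = W hF * T hF k * W hF := by
      rw [e, W_inv]
      calc x = (W hF * W hF) * x * (W hF * W hF) := by rw [W_mul_W, one_mul, mul_one]
        _ = _ := by group
    rw [h2, W_mul_T, mul_assoc, W_mul_W, mul_one]

theorem TI_T (hm : 1 ≤ m) : ∀ h u, u ∈ (THom hF).range → u ≠ 1 → h * u * h⁻¹ ∈ (THom hF).range →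
    h ∈ Subgroup.normalizer ((THom hF).range : Set (Cfsg.Sz F m)) := by
  rintro h u ⟨k, rfl⟩ hu1 ⟨k', e⟩
  rcases swap_of_conj_T hF hm (k := k) (k' := k') (fun h' => hu1 (by rw [h', map_one])) e.symm with
    ⟨l, rfl⟩ | ⟨l, rfl⟩
  · exact T_mem_normalizer hF l
  · exact mul_mem (W_mem_normalizer hF) (T_mem_normalizer hF l)

theorem card_normalizer_T (hm : 1 ≤ m) :
    Nat.card (Subgroup.normalizer ((THom hF).range : Set (Cfsg.Sz F m)))
      = 2 * (Fintype.card F - 1) := by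
  obtain ⟨k₀, hk0, hk1⟩ := exists_ne_zero_one hF hm
  have hk : Units.mk0 k₀ hk0 ≠ 1 := fun h => hk1 (congrArg Units.val h)
  have hW : ∀ l l', T hF l ≠ W hF * T hF l' := fun l l' h => by
    have := congrArg (fun g : Cfsg.Sz F m => g • Cfsg.suzukiPointInfinity F) h
    simp only [mul_smul, T_smul_inf hF, W_smul_inf hF] at this
    exact pt_ne_inf 0 0 this.symm
  let φ : Fˣ ⊕ Fˣ → Subgroup.normalizer ((THom hF).range : Set (Cfsg.Sz F m)) :=
    Sum.elim (fun l => ⟨T hF l, T_mem_normalizer hF l⟩)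
      (fun l => ⟨W hF * T hF l, mul_mem (W_mem_normalizer hF) (T_mem_normalizer hF l)⟩)
  have hbij : Function.Bijective φ := by
    constructor
    · rintro (a | a) (b | b) h
      · exact congrArg Sum.inl (T_inj hF (congrArg Subtype.val h))
      · exact absurd (congrArg Subtype.val h) (hW a b)
      · exact absurd (congrArg Subtype.val h).symm (hW b a)
      · exact congrArg Sum.inr (T_inj hF (mul_left_cancel (congrArg Subtype.val h)))
    · rintro ⟨h, hh⟩
      obtain ⟨k', e⟩ := (Subgroup.mem_normalizer_iff.1 hh _).1 ⟨Units.mk0 k₀ hk0, rfl⟩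
      rcases swap_of_conj_T hF hm (k' := k') hk e.symm with ⟨l, rfl⟩ | ⟨l, rfl⟩
      · exact ⟨Sum.inl l, rfl⟩
      · exact ⟨Sum.inr l, rfl⟩
  rw [← Nat.card_eq_of_bijective φ hbij, Nat.card_sum, Nat.card_units, Nat.card_eq_fintype_card]
  ring

theorem TI_U (hm : 1 ≤ m) : ∀ h u, u ∈ USub hF → u ≠ 1 → h * u * h⁻¹ ∈ USub hF →
    h ∈ Subgroup.normalizer (USub hF : Set (Cfsg.Sz F m)) := by
  rintro h u ⟨a, b, rfl⟩ hu1 ⟨c, d, e⟩
  have hne : U hF c d ≠ 1 := fun h' => hu1 (by rw [h'] at e; exact conj_eq_one_iff.1 e)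
  have hfix : U hF c d • (h • Cfsg.suzukiPointInfinity F) = h • Cfsg.suzukiPointInfinity F := by
    rw [← e, mul_smul, mul_smul, inv_smul_smul, U_smul_inf]
  obtain ⟨a', b', k, rfl⟩ := eq_U_T_of_fix hF hm h
    ((U_fix hF (smul_mem_ovoid _ inf_mem_ovoid) hfix).resolve_right hne)
  refine mul_mem (Subgroup.le_normalizer ⟨a', b', rfl⟩) ?_
  rw [Subgroup.mem_normalizer_iff]
  intro x
  constructor
  · rintro ⟨p, q, rfl⟩
    exact ⟨_, _, T_conj_U hF k p q⟩
  · rintro ⟨p, q, e'⟩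
    have h3 := T_conj_U hF k⁻¹ p q
    rw [T_inv, inv_inv, ← e'] at h3
    exact ⟨_, _, Eq.trans (by group) h3⟩

theorem normalizer_USub (hm : 1 ≤ m) :
    Subgroup.normalizer (USub hF : Set (Cfsg.Sz F m))
      = MulAction.stabilizer (Cfsg.Sz F m) (Cfsg.suzukiPointInfinity F) := by
  ext h
  constructor
  · intro hh
    obtain ⟨c, d, e⟩ := (Subgroup.mem_normalizer_iff.1 hh _).1 ⟨1, 0, rfl⟩
    have hne : U hF (1 : F) 0 ≠ 1 := fun h' =>
      one_ne_zero (α := F) (U_inj hF (h'.trans (U_zero hF).symm)).1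
    have hne' : U hF c d ≠ 1 := fun h' => hne (by rw [h'] at e; exact conj_eq_one_iff.1 e)
    have hfix : U hF c d • (h • Cfsg.suzukiPointInfinity F) = h • Cfsg.suzukiPointInfinity F := by
      rw [← e, mul_smul, mul_smul, inv_smul_smul, U_smul_inf]
    exact (U_fix hF (smul_mem_ovoid _ inf_mem_ovoid) hfix).resolve_right hne'
  · intro hh
    obtain ⟨a, b, k, rfl⟩ := eq_U_T_of_fix hF hm h hh
    refine TI_U hF hm _ (U hF 1 0) ⟨1, 0, rfl⟩
      (fun h' => one_ne_zero (α := F) (U_inj hF (h'.trans (U_zero hF).symm)).1) ?_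
    rw [show U hF a b * T hF k * U hF 1 0 * (U hF a b * T hF k)⁻¹
      = U hF a b * (T hF k * U hF 1 0 * (T hF k)⁻¹) * (U hF a b)⁻¹ by group, T_conj_U, U_mul,
      U_inv, U_mul]
    exact ⟨_, _, rfl⟩

theorem cls_U_not_fpf {g : Cfsg.Sz F m} (hg : g ∈ cls (USub hF)) : ¬ Fpf g := by
  obtain ⟨u, ⟨a, b, rfl⟩, -, h, rfl⟩ := hg
  intro hf
  exact hf (h • Cfsg.suzukiPointInfinity F) (smul_mem_ovoid _ inf_mem_ovoid)
    (by rw [mul_smul, mul_smul, inv_smul_smul, U_smul_inf])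

theorem cls_T_not_fpf {g : Cfsg.Sz F m} (hg : g ∈ cls (THom hF).range) : ¬ Fpf g := by
  obtain ⟨u, ⟨k, rfl⟩, -, h, rfl⟩ := hg
  intro hf
  refine hf (h • Cfsg.suzukiPointInfinity F) (smul_mem_ovoid _ inf_mem_ovoid) ?_
  rw [mul_smul, mul_smul, inv_smul_smul]
  congr 1
  exact T_smul_inf hF k

theorem cls_U_T_disjoint : Disjoint (cls (USub hF)) (cls (THom hF).range) := by
  rw [Set.disjoint_left]
  rintro g ⟨u, ⟨a, b, rfl⟩, hu1, h, rfl⟩ ⟨v, ⟨k, rfl⟩, hv1, h', e⟩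
  set x := h⁻¹ * h'
  have e' : U hF a b = x * T hF k * x⁻¹ := by
    have e2 : h' * T hF k * h'⁻¹ = h * U hF a b * h⁻¹ := e
    calc U hF a b = h⁻¹ * (h * U hF a b * h⁻¹) * h := by group
      _ = x * T hF k * x⁻¹ := by rw [← e2]; simp only [x]; group
  have key : ∀ p, T hF k • p = p → p ∈ Cfsg.suzukiOvoid F m →
      x • p = Cfsg.suzukiPointInfinity F := by
    intro p hp hmem
    refine (U_fix hF (a := a) (b := b) (smul_mem_ovoid x hmem) ?_).resolve_right hu1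
    rw [e', mul_smul, mul_smul, inv_smul_smul, hp]
  exact pt_ne_inf (m := m) (0 : F) 0 (MulAction.injective x
    ((key _ (T_smul_zero hF k) (pt_mem_ovoid _ _)).trans (key _ (T_smul_inf hF k) inf_mem_ovoid).symm))

/-- The number of fixed point free elements. -/
theorem two_ncard_fpf (hm : 1 ≤ m) :
    2 * {g : Cfsg.Sz F m | Fpf g}.ncard
      = Fintype.card F ^ 3 * (Fintype.card F - 1) ^ 2 := by
  have hU := ncard_cls (USub hF) (TI_U hF hm)
  have hT := ncard_cls (THom hF).range (TI_T hF hm)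
  rw [normalizer_USub hF hm, card_stabilizer_inf hF hm, card_USub, card_Sz hF hm, ← hF] at hU
  rw [card_normalizer_T hF hm, card_range_T, card_Sz hF hm, ← hF] at hT
  have huniv : (Set.univ : Set (Cfsg.Sz F m))
      = ({1} ∪ cls (USub hF)) ∪ (cls (THom hF).range ∪ {g | Fpf g}) := by
    refine (Set.eq_univ_of_forall fun g => ?_).symm
    by_cases hg : g = 1
    · exact Or.inl (Or.inl hg)
    rcases classify hF hm hg with h | ⟨a, b, h, h1, e⟩ | ⟨k, h, h1, e⟩
    · exact Or.inr (Or.inr h)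
    · exact Or.inl (Or.inr ⟨_, ⟨a, b, rfl⟩, h1, h, e.symm⟩)
    · exact Or.inr (Or.inl ⟨_, ⟨k, rfl⟩, fun h' => h1 (T_inj hF (h'.trans (T_one hF).symm)), h,
        e.symm⟩)
  have hne1 : ∀ (H : Subgroup (Cfsg.Sz F m)), (1 : Cfsg.Sz F m) ∉ cls H := by
    rintro H ⟨u, -, hu1, h, e⟩
    exact hu1 (conj_eq_one_iff.1 e)
  have hd1 : Disjoint ({1} : Set (Cfsg.Sz F m)) (cls (USub hF)) :=
    Set.disjoint_singleton_left.2 (hne1 _)
  have hd2 : Disjoint (cls (THom hF).range) {g : Cfsg.Sz F m | Fpf g} :=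
    Set.disjoint_left.2 fun g h1 h2 => cls_T_not_fpf hF h1 h2
  have hd3 : Disjoint (({1} : Set (Cfsg.Sz F m)) ∪ cls (USub hF))
      (cls (THom hF).range ∪ {g | Fpf g}) := by
    rw [Set.disjoint_union_left, Set.disjoint_union_right, Set.disjoint_union_right]
    exact ⟨⟨Set.disjoint_singleton_left.2 (hne1 _),
      Set.disjoint_singleton_left.2 fun h => fpf_ne_one h rfl⟩,
      cls_U_T_disjoint hF, Set.disjoint_left.2 fun g h1 h2 => cls_U_not_fpf hF h1 h2⟩
  have hsum := congrArg Set.ncard huniv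
  rw [Set.ncard_univ, Set.ncard_union_eq hd3 (Set.toFinite _) (Set.toFinite _),
    Set.ncard_union_eq hd1 (Set.toFinite _) (Set.toFinite _),
    Set.ncard_union_eq hd2 (Set.toFinite _) (Set.toFinite _), Set.ncard_singleton, card_Sz hF hm,
    ← hF] at hsum
  obtain ⟨h8, -⟩ := q_facts hF hm
  generalize (cls (USub hF)).ncard = A at hU hsum
  generalize (cls (THom hF).range).ncard = B at hT hsum
  generalize {g : Cfsg.Sz F m | Fpf g}.ncard = E at hsum ⊢
  clear huniv hd1 hd2 hd3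
  revert h8
  revert hsum
  revert hT
  revert hU
  generalize Fintype.card F = q
  intro hU hT hsum h8
  obtain ⟨r, rfl⟩ := Nat.exists_eq_add_of_le (show 2 ≤ q by omega)
  have e1 : 2 + r - 1 = r + 1 := by omega
  have e2 : r + 1 - 1 = r := by omega
  have e3 : (2 + r) ^ 2 - 1 = r ^ 2 + 4 * r + 3 := by
    have : (2 + r) ^ 2 = r ^ 2 + 4 * r + 4 := by ring
    omega
  rw [e1, e3] at hU
  rw [e1, e2] at hT
  rw [e1] at hsum ⊢
  have hA : A = (r ^ 2 + 4 * r + 3) * ((2 + r) ^ 2 + 1) := by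
    apply Nat.eq_of_mul_eq_mul_right (show 0 < (2 + r) ^ 2 * (r + 1) by positivity)
    rw [hU]; ring
  have hB : 2 * B = r * ((2 + r) ^ 2 * ((2 + r) ^ 2 + 1)) := by
    apply Nat.eq_of_mul_eq_mul_right (show 0 < r + 1 by omega)
    calc 2 * B * (r + 1) = B * (2 * (r + 1)) := by ring
      _ = _ := by rw [hT]; ring
  subst hA
  zify at hsum hB ⊢
  linear_combination (-2 : ℤ) * hsum - hB

theorem odd_prime_bound (hm : 1 ≤ m) {p : ℕ} (hp : p.Prime)
    (hpd : p ∣ Fintype.card F ^ 2 + 1) : 5 ≤ p := by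
  have h2 : p ≠ 2 := fun h => by
    subst h
    exact hp.not_dvd_one ((Nat.dvd_add_right
      (dvd_pow (even_iff_two_dvd.1 (q_facts hF hm).2) (by norm_num))).1 hpd)
  have h3 : p ≠ 3 := fun h => by
    subst h
    have := Nat.mod_lt (Fintype.card F) (show 0 < 3 by norm_num)
    rw [Nat.dvd_iff_mod_eq_zero, Nat.add_mod, Nat.pow_mod] at hpd
    interval_cases h : Fintype.card F % 3 <;> simp_all
  have := hp.two_le
  by_contra hcon
  interval_cases p <;> simp_all (config := { decide := true })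

theorem prime_of_mem_torus (hm : 1 ≤ m) {g : Cfsg.Sz F m} (hg : Fpf g) {p : ℕ} (hp : p.Prime)
    (hpd : p ∣ Nat.card (Subgroup.centralizer {g})) :
    ∃ u ∈ Subgroup.centralizer {g}, orderOf u = p ∧ Fpf u ∧
      Subgroup.centralizer {u} = Subgroup.centralizer {g} ∧ p ∣ Fintype.card F ^ 2 + 1 := by
  haveI : Fact p.Prime := ⟨hp⟩
  obtain ⟨⟨u, hu⟩, ho⟩ := exists_prime_orderOf_dvd_card' (G := Subgroup.centralizer {g}) p hpd
  rw [← Subgroup.orderOf_coe] at ho
  change orderOf u = p at ho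
  have hu1 : u ≠ 1 := fun h => by rw [h, orderOf_one] at ho; exact hp.one_lt.ne ho
  obtain ⟨hfu, hcu⟩ := (torus hF hm hg).2 u hu hu1
  exact ⟨u, hu, ho, hfu, hcu, prime_dvd_of_fpf_prime hF hm hfu hp ho⟩

theorem coprime_q_facts (hm : 1 ≤ m) {p : ℕ} (hp : p.Prime)
    (hpd : p ∣ Fintype.card F ^ 2 + 1) : ¬ p ∣ Fintype.card F ^ 2 * (Fintype.card F - 1) := by
  intro h
  rcases hp.dvd_mul.1 h with h' | h'
  · exact hp.not_dvd_one ((Nat.dvd_add_right h').1 hpd)
  · exact not_dvd_pow_sub_one hF hm hp hpd 1 one_pos (by norm_num) (by rwa [pow_one])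

theorem card_torus_dvd (hm : 1 ≤ m) {g : Cfsg.Sz F m} (hg : Fpf g) :
    Nat.card (Subgroup.centralizer {g}) ∣ Fintype.card F ^ 2 + 1 := by
  have h := Subgroup.card_subgroup_dvd_card (Subgroup.centralizer {g})
  rw [card_Sz hF hm, ← hF, mul_right_comm] at h
  refine (Nat.Coprime.dvd_mul_left ?_).1 h
  refine Nat.coprime_of_dvd fun p hp h1 h2 => ?_
  obtain ⟨-, -, -, -, -, hpd⟩ := prime_of_mem_torus hF hm hg hp h1
  exact coprime_q_facts hF hm hp hpd h2

/-- A Sylow subgroup containing `u` of prime order dividing `q² + 1` centralises it. -/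
theorem sylow_le_centralizer (hm : 1 ≤ m) {p : ℕ} [hp : Fact p.Prime]
    (hpd : p ∣ Fintype.card F ^ 2 + 1) {u : Cfsg.Sz F m} (hu : orderOf u = p)
    (P : Sylow p (Cfsg.Sz F m)) (huP : u ∈ (P : Subgroup (Cfsg.Sz F m))) :
    (P : Subgroup (Cfsg.Sz F m)) ≤ Subgroup.centralizer {u} := by
  haveI : Nontrivial P := ⟨⟨⟨u, huP⟩, 1, fun h => by
    have h' : u = 1 := congrArg Subtype.val h
    rw [h', orderOf_one] at hu
    exact hp.out.one_lt.ne hu⟩⟩
  haveI := P.isPGroup'.center_nontrivial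
  obtain ⟨k, hk⟩ := (P.isPGroup'.to_subgroup (Subgroup.center P)).exists_card_eq
  have hdvd : p ∣ Nat.card (Subgroup.center P) := by
    have h1 : 1 < Nat.card (Subgroup.center P) := Finite.one_lt_card
    rw [hk] at h1 ⊢
    exact dvd_pow_self p fun h0 => by simp [h0] at h1
  obtain ⟨⟨⟨z, hzP⟩, hzc⟩, hz⟩ := exists_prime_orderOf_dvd_card' p hdvd
  rw [← Subgroup.orderOf_coe, ← Subgroup.orderOf_coe] at hz
  change orderOf z = p at hz
  have hfz := fpf_of_prime_order hF hm hp.out hz hpd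
  have hle : (P : Subgroup (Cfsg.Sz F m)) ≤ Subgroup.centralizer {z} := fun y hy => by
    rw [Subgroup.mem_centralizer_singleton_iff]
    exact congrArg Subtype.val (Subgroup.mem_center_iff.1 hzc ⟨y, hy⟩)
  have hu1 : u ≠ 1 := fun h => by rw [h, orderOf_one] at hu; exact hp.out.one_lt.ne hu
  rwa [((torus hF hm hfz).2 u (hle huP) hu1).2]

theorem sylow_odd_isCyclic (hm : 1 ≤ m) {p : ℕ} [hp : Fact p.Prime] (hp2 : p ≠ 2)
    (P : Sylow p (Cfsg.Sz F m)) : IsCyclic P := by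
  by_cases h1 : Nat.card P = 1
  · haveI : Subsingleton P := (Nat.card_eq_one_iff_unique.1 h1).1
    exact isCyclic_of_subsingleton
  have hpG : p ∣ Nat.card (Cfsg.Sz F m) := by
    obtain ⟨n, hn⟩ := P.isPGroup'.exists_card_eq
    refine dvd_trans ?_ (Subgroup.card_subgroup_dvd_card (P : Subgroup (Cfsg.Sz F m)))
    rw [hn]
    exact dvd_pow_self p fun h0 => h1 (by rw [hn, h0, pow_zero])
  rw [card_Sz hF hm, ← hF, mul_right_comm] at hpG
  rcases hp.out.dvd_mul.1 hpG with h | h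
  · -- `p` divides `q - 1`: inside a torus of order `q - 1`
    rcases hp.out.dvd_mul.1 h with h' | h'
    · rw [hF] at h'
      exact absurd ((Nat.prime_dvd_prime_iff_eq hp.out Nat.prime_two).1
        (hp.out.dvd_of_dvd_pow (hp.out.dvd_of_dvd_pow h'))) hp2
    have hndvd : ¬ p ∣ ((THom hF).range).index := by
      intro hd
      have hi := ((THom hF).range).index_mul_card
      rw [card_range_T, card_Sz hF hm, ← hF] at hi
      have h2 : ((THom hF).range).index = Fintype.card F ^ 2 * (Fintype.card F ^ 2 + 1) :=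
        Nat.eq_of_mul_eq_mul_right (by have := (q_facts hF hm).1; omega) hi
      rw [h2] at hd
      rcases hp.out.dvd_mul.1 hd with h3 | h3
      · rw [hF] at h3
        exact hp2 ((Nat.prime_dvd_prime_iff_eq hp.out Nat.prime_two).1
          (hp.out.dvd_of_dvd_pow (hp.out.dvd_of_dvd_pow h3)))
      · exact coprime_q_facts hF hm hp.out h3 (dvd_mul_of_dvd_right h' _)
    let S : Sylow p (THom hF).range := default
    haveI : IsCyclic (THom hF).range := isCyclic_of_surjective (THom hF).rangeRestrict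
      (THom hF).rangeRestrict_surjective
    have hSdvd : ¬ p ∣ ((S : Subgroup (THom hF).range).map (THom hF).range.subtype).index := by
      rw [Subgroup.index_map_subtype]
      exact fun hd => (hp.out.dvd_mul.1 hd).elim S.not_dvd_index hndvd
    have hSp : IsPGroup p ((S : Subgroup (THom hF).range).map (THom hF).range.subtype) :=
      S.isPGroup'.map _
    let Q := hSp.toSylow hSdvd
    haveI : IsCyclic ((S : Subgroup (THom hF).range).map (THom hF).range.subtype) :=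
      isCyclic_of_surjective _ ((THom hF).range.subtype.subgroupMap_surjective _)
    haveI : IsCyclic Q := ‹_›
    exact isCyclic_of_surjective (Sylow.equiv Q P) (Sylow.equiv Q P).surjective
  · obtain ⟨n, hn⟩ := P.isPGroup'.exists_card_eq
    obtain ⟨⟨u, hu⟩, ho⟩ := exists_prime_orderOf_dvd_card' (G := P) p
      (hn ▸ dvd_pow_self p fun h0 => h1 (by rw [hn, h0, pow_zero]))
    rw [← Subgroup.orderOf_coe] at ho
    change orderOf u = p at ho
    haveI := (torus hF hm (fpf_of_prime_order hF hm hp.out ho h)).1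
    exact isCyclic_of_injective _
      (Subgroup.inclusion_injective (sylow_le_centralizer hF hm h ho P hu))

/-- Tori sharing a prime are conjugate. -/
theorem torus_conj (hm : 1 ≤ m) {g g' : Cfsg.Sz F m} (hg : Fpf g) (hg' : Fpf g') {p : ℕ}
    (hp : p.Prime) (h1 : p ∣ Nat.card (Subgroup.centralizer {g}))
    (h2 : p ∣ Nat.card (Subgroup.centralizer {g'})) :
    ∃ h, Subgroup.centralizer {g'} = (Subgroup.centralizer {g}).map (MulAut.conj h).toMonoidHom := by
  haveI : Fact p.Prime := ⟨hp⟩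
  obtain ⟨u, hu, huo, -, hcu, hpd⟩ := prime_of_mem_torus hF hm hg hp h1
  obtain ⟨v, hv, hvo, -, hcv, -⟩ := prime_of_mem_torus hF hm hg' hp h2
  have hex : ∀ w : Cfsg.Sz F m, orderOf w = p → ∃ P : Sylow p (Cfsg.Sz F m), w ∈ (P : Subgroup (Cfsg.Sz F m)) := by
    intro w hw
    obtain ⟨P, hP⟩ := (IsPGroup.of_card (n := 1) (show Nat.card (Subgroup.zpowers w) = p ^ 1 by
      rw [Nat.card_zpowers, hw, pow_one])).exists_le_sylow
    exact ⟨P, hP (Subgroup.mem_zpowers w)⟩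
  obtain ⟨P, hP⟩ := hex u huo
  obtain ⟨Q, hQ⟩ := hex v hvo
  obtain ⟨h, hh⟩ := MulAction.exists_smul_eq (Cfsg.Sz F m) P Q
  refine ⟨h, ?_⟩
  rw [← hcu, ← centralizer_conj]
  have hmem : h * u * h⁻¹ ∈ (Q : Subgroup (Cfsg.Sz F m)) := by
    rw [← hh, Sylow.coe_subgroup_smul]
    exact Subgroup.smul_mem_pointwise_smul u _ _ hP
  have hmem' := sylow_le_centralizer hF hm hpd hvo Q hQ hmem
  rw [hcv] at hmem'
  exact (((torus hF hm hg').2 _ hmem' fun h' => fpf_ne_one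
    ((torus hF hm hg).2 u hu (fun h0 => by rw [h0, orderOf_one] at huo; exact hp.one_lt.ne huo)).1
    (conj_eq_one_iff.1 h')).2).symm

theorem torus_TI (hm : 1 ≤ m) {g : Cfsg.Sz F m} (hg : Fpf g) :
    ∀ h u, u ∈ Subgroup.centralizer {g} → u ≠ 1 → h * u * h⁻¹ ∈ Subgroup.centralizer {g} →
      h ∈ Subgroup.normalizer (Subgroup.centralizer {g} : Set (Cfsg.Sz F m)) := by
  intro h u hu hu1 hh
  have e1 := ((torus hF hm hg).2 u hu hu1).2
  have e2 := ((torus hF hm hg).2 _ hh fun h' => hu1 (conj_eq_one_iff.1 h')).2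
  rw [centralizer_conj, e1] at e2
  rw [Subgroup.mem_normalizer_iff]
  intro x
  constructor
  · intro hx
    rw [← e2]
    exact ⟨x, hx, rfl⟩
  · intro hx
    rw [← e2] at hx
    obtain ⟨y, hy, e⟩ := hx
    rwa [(MulAut.conj h).injective e] at hy

theorem card_torus_normalizer (hm : 1 ≤ m) {g : Cfsg.Sz F m} (hg : Fpf g) :
    ∃ w, w ∣ 4 ∧ Nat.card (Subgroup.normalizer (Subgroup.centralizer {g} : Set (Cfsg.Sz F m)))
      = Nat.card (Subgroup.centralizer {g}) * w := by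
  classical
  set A := Subgroup.centralizer {g} with hA
  set N := Subgroup.normalizer (A : Set (Cfsg.Sz F m)) with hN
  have hgA : g ∈ A := Subgroup.mem_centralizer_singleton_iff.2 rfl
  haveI : Nontrivial A := ⟨⟨⟨g, hgA⟩, 1, fun h => fpf_ne_one hg (congrArg Subtype.val h)⟩⟩
  obtain ⟨p, hp, hpA⟩ := Nat.exists_prime_and_dvd (Finite.one_lt_card (α := A)).ne'
  haveI : Fact p.Prime := ⟨hp⟩
  obtain ⟨x, hxA, hxo, -, hcx, hpd⟩ := prime_of_mem_torus hF hm hg hp hpA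
  obtain ⟨-, hgal⟩ := prime_centralizer hF hm hp hxo hpd
  have hex : ∀ h : N, ∃ i, i < 4 ∧
      (h : Cfsg.Sz F m) * x * (h : Cfsg.Sz F m)⁻¹ = x ^ (Fintype.card F ^ i) := fun h =>
    hgal h (by rw [hcx]; exact (Subgroup.mem_normalizer_iff.1 h.2 x).1 hxA)
  choose i hi4 hi using hex
  set q := Fintype.card F
  have hcast : ∀ a b : ℕ, x ^ a = x ^ b ↔ (a : ZMod p) = b := fun a b => by
    rw [pow_eq_pow_iff_modEq, hxo, ZMod.natCast_eq_natCast_iff]
  let ψ₀ : N →* ZMod p :=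
    { toFun := fun h => ((q ^ i h : ℕ) : ZMod p)
      map_one' := by
        rw [← Nat.cast_one, ← hcast, ← hi 1, pow_one]
        simp
      map_mul' := fun h k => by
        rw [← Nat.cast_mul, ← hcast, ← hi, pow_mul, ← hi h, conj_pow, ← hi k, Subgroup.coe_mul]
        group }
  let ψ := ψ₀.toHomUnits
  have hker : ψ.ker = A.subgroupOf N := by
    ext h
    rw [MonoidHom.mem_ker, Subgroup.mem_subgroupOf, Units.ext_iff]
    change ((q ^ i h : ℕ) : ZMod p) = 1 ↔ _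
    rw [← Nat.cast_one, ← hcast, ← hi, pow_one, show A = Subgroup.centralizer {x} from hcx.symm,
      Subgroup.mem_centralizer_singleton_iff,
      mul_inv_eq_iff_eq_mul]
  have hq4 : (q : ZMod p) ^ 4 = 1 := by
    have := (ZMod.natCast_eq_zero_iff (q ^ 2 + 1) p).2 hpd
    push_cast at this
    linear_combination ((q : ZMod p) ^ 2 - 1) * this
  let qu : (ZMod p)ˣ := ⟨q, (q : ZMod p) ^ 3, by linear_combination hq4, by linear_combination hq4⟩
  have hord : orderOf qu ∣ 4 := orderOf_dvd_of_pow_eq_one (Units.ext (by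
    rw [Units.val_pow_eq_pow_val]; exact hq4))
  have hrange : ψ.range ≤ Subgroup.zpowers qu := by
    rintro _ ⟨h, rfl⟩
    refine Subgroup.mem_zpowers_iff.2 ⟨i h, Units.ext ?_⟩
    rw [zpow_natCast, Units.val_pow_eq_pow_val]
    change (q : ZMod p) ^ i h = ((q ^ i h : ℕ) : ZMod p)
    push_cast; rfl
  refine ⟨Nat.card ψ.range, (Subgroup.card_dvd_of_le hrange).trans
    (by rwa [Nat.card_zpowers]), ?_⟩
  rw [← Subgroup.index_ker, hker, mul_comm,
    ← Nat.card_congr (Subgroup.subgroupOfEquivOfLe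
      (Subgroup.le_normalizer : A ≤ N)).toEquiv, Subgroup.index_mul_card]

/-- Disjointness of the classes of coprime tori, and covering. -/
theorem torus_orders (hm : 1 ≤ m) :
    ∃ g₁ g₂ : Cfsg.Sz F m, Fpf g₁ ∧ Fpf g₂ ∧
      Nat.card (Subgroup.centralizer {g₁}) = Fintype.card F + 2 ^ (m + 1) + 1 ∧
      Nat.card (Subgroup.centralizer {g₂}) = Fintype.card F - 2 ^ (m + 1) + 1 ∧
      Nat.card (Subgroup.normalizer (Subgroup.centralizer {g₁} : Set (Cfsg.Sz F m)))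
        = 4 * Nat.card (Subgroup.centralizer {g₁}) ∧
      Nat.card (Subgroup.normalizer (Subgroup.centralizer {g₂} : Set (Cfsg.Sz F m)))
        = 4 * Nat.card (Subgroup.centralizer {g₂}) := by
  classical
  obtain ⟨h8, heven⟩ := q_facts hF hm
  set q := Fintype.card F with hq
  set G := Cfsg.Sz F m
  have hcard : Nat.card G = q ^ 2 * (q ^ 2 + 1) * (q - 1) := by rw [card_Sz hF hm, ← hF]
  have hsub : ∀ {g : G}, Fpf g → cls (Subgroup.centralizer {g}) ⊆ {g : G | Fpf g} := by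
    rintro g hg _ ⟨u, hu, hu1, h, rfl⟩
    exact fpf_conj ((torus hF hm hg).2 u hu hu1).1 h
  have hex : ∀ p : ℕ, p.Prime → p ∣ q ^ 2 + 1 →
      ∃ g : G, Fpf g ∧ p ∣ Nat.card (Subgroup.centralizer {g}) := by
    intro p hp hpd
    haveI : Fact p.Prime := ⟨hp⟩
    have : p ∣ Nat.card G := hcard ▸ (hpd.mul_left _).mul_right _
    obtain ⟨g, hg⟩ := exists_prime_orderOf_dvd_card' p this
    refine ⟨g, fpf_of_prime_order hF hm hp hg hpd, ?_⟩
    have hgm : g ∈ Subgroup.centralizer {g} := Subgroup.mem_centralizer_singleton_iff.2 rfl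
    have := orderOf_dvd_natCard (⟨g, hgm⟩ : Subgroup.centralizer {g})
    rwa [← Subgroup.orderOf_coe, hg] at this
  -- the data of one torus
  have hdata : ∀ {g : G}, Fpf g → ∃ w, w ∣ 4 ∧ 5 ≤ Nat.card (Subgroup.centralizer {g}) ∧
      Nat.card (Subgroup.normalizer (Subgroup.centralizer {g} : Set G))
        = Nat.card (Subgroup.centralizer {g}) * w ∧
      (cls (Subgroup.centralizer {g})).ncard * (Nat.card (Subgroup.centralizer {g}) * w)
        = (Nat.card (Subgroup.centralizer {g}) - 1) * Nat.card G := by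
    intro g hg
    obtain ⟨w, hw, hN⟩ := card_torus_normalizer hF hm hg
    refine ⟨w, hw, ?_, hN, hN ▸ ncard_cls _ (torus_TI hF hm hg)⟩
    have hgm : g ∈ Subgroup.centralizer {g} := Subgroup.mem_centralizer_singleton_iff.2 rfl
    haveI : Nontrivial (Subgroup.centralizer {g}) :=
      ⟨⟨⟨g, hgm⟩, 1, fun h => fpf_ne_one hg (congrArg Subtype.val h)⟩⟩
    obtain ⟨p, hp, hpA⟩ := Nat.exists_prime_and_dvd
      (Finite.one_lt_card (α := Subgroup.centralizer {g})).ne'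
    obtain ⟨-, -, -, -, -, hpd⟩ := prime_of_mem_torus hF hm hg hp hpA
    exact (odd_prime_bound hF hm hp hpd).trans (Nat.le_of_dvd Nat.card_pos hpA)
  have hcop : ∀ {g g' : G}, Fpf g → Fpf g' →
      ¬ Disjoint (cls (Subgroup.centralizer {g})) (cls (Subgroup.centralizer {g'})) →
      Nat.card (Subgroup.centralizer {g}) = Nat.card (Subgroup.centralizer {g'}) := by
    intro g g' hg hg' hnd
    obtain ⟨x, ⟨u, hu, hu1, h, e⟩, ⟨v, hv, hv1, k, e'⟩⟩ := Set.not_disjoint_iff.1 hnd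
    have e1 := ((torus hF hm hg).2 u hu hu1).2
    have e2 := ((torus hF hm hg').2 v hv hv1).2
    have h1 : Nat.card (Subgroup.centralizer {x}) = Nat.card (Subgroup.centralizer {g}) := by
      rw [← e, centralizer_conj, e1]
      exact (Nat.card_congr (Subgroup.equivMapOfInjective _ _ (MulAut.conj h).injective).toEquiv).symm
    have h2 : Nat.card (Subgroup.centralizer {x}) = Nat.card (Subgroup.centralizer {g'}) := by
      rw [← e', centralizer_conj, e2]
      exact (Nat.card_congr (Subgroup.equivMapOfInjective _ _ (MulAut.conj k).injective).toEquiv).symm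
    exact h1.symm.trans h2
  have hE := two_ncard_fpf hF hm
  rw [← hq] at hE
  have hd5 : ∀ {a w Γ : ℕ}, 5 ≤ a → w ∣ 4 → Γ * (a * w) = (a - 1) * Nat.card G →
      Nat.card G ≤ 5 * Γ := by
    intro a w Γ ha hw he
    have hw4 : w ≤ 4 := Nat.le_of_dvd (by norm_num) hw
    obtain ⟨b, rfl⟩ : ∃ b, a = b + 5 := ⟨a - 5, by omega⟩
    rw [show b + 5 - 1 = b + 4 by omega] at he
    refine Nat.le_of_mul_le_mul_left ?_ (show 0 < b + 4 by omega)
    rw [← he]
    calc Γ * ((b + 5) * w) ≤ Γ * ((b + 5) * 4) := by gcongr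
      _ ≤ Γ * ((b + 4) * 5) := by gcongr Γ * ?_; omega
      _ = (b + 4) * (5 * Γ) := by ring
  have hbad : ¬ (3 * Nat.card G ≤ 5 * {g : G | Fpf g}.ncard) := by
    intro h
    rw [hcard] at h
    obtain ⟨r, hr⟩ := Nat.exists_eq_add_of_le (show 1 ≤ q by omega)
    rw [hr, show 1 + r - 1 = r by omega] at h hE
    nlinarith [Nat.mul_pos (show 0 < (1 + r) ^ 2 by positivity) (show 0 < r by omega)]
  -- first torus
  obtain ⟨p₁, hp₁, hp₁d⟩ := Nat.exists_prime_and_dvd (show q ^ 2 + 1 ≠ 1 by simp; omega)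
  obtain ⟨g₁, hg₁, hp₁a⟩ := hex p₁ hp₁ hp₁d
  obtain ⟨w₁, hw₁, ha₁5, hN₁, hΓ₁⟩ := hdata hg₁
  set a₁ := Nat.card (Subgroup.centralizer {g₁}) with ha₁
  have hconj : ∀ {g g' : G}, Fpf g → Fpf g' → ∀ p : ℕ, p.Prime →
      p ∣ Nat.card (Subgroup.centralizer {g}) → p ∣ Nat.card (Subgroup.centralizer {g'}) →
      g' ∈ cls (Subgroup.centralizer {g}) := by
    intro g g' hg hg' p hp h1 h2
    obtain ⟨h, e⟩ := torus_conj hF hm hg hg' hp h1 h2
    have hm' : g' ∈ Subgroup.centralizer {g'} := Subgroup.mem_centralizer_singleton_iff.2 rfl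
    rw [e] at hm'
    obtain ⟨u, hu, hue⟩ := hm'
    exact ⟨u, hu, fun h' => fpf_ne_one hg' (by rw [← hue, h', map_one]), h, hue⟩
  -- the prime-part property
  have hfull : ∀ {g : G}, Fpf g → ∀ p : ℕ, p.Prime → p ∣ Nat.card (Subgroup.centralizer {g}) →
      ¬ p ∣ (q ^ 2 + 1) / Nat.card (Subgroup.centralizer {g}) := by
    intro g hg p hp hpa hpd'
    haveI : Fact p.Prime := ⟨hp⟩
    obtain ⟨u, hu, huo, -, hcu, hpd⟩ := prime_of_mem_torus hF hm hg hp hpa
    obtain ⟨P, hP⟩ := (IsPGroup.of_card (n := 1) (show Nat.card (Subgroup.zpowers u) = p ^ 1 by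
      rw [Nat.card_zpowers, huo, pow_one])).exists_le_sylow
    have hle := sylow_le_centralizer hF hm hpd huo P (hP (Subgroup.mem_zpowers u))
    rw [hcu] at hle
    have h1 := P.not_dvd_index
    apply h1
    refine dvd_trans ?_ (Subgroup.index_dvd_of_le hle)
    have h2 := (Subgroup.centralizer {g}).index_mul_card
    obtain ⟨c, hc⟩ := card_torus_dvd hF hm hg
    rw [← hq] at hc
    rw [hcard, hc] at h2
    rw [hc, Nat.mul_div_cancel_left _ Nat.card_pos] at hpd'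
    have h3 : (Subgroup.centralizer {g}).index = q ^ 2 * c * (q - 1) :=
      Nat.eq_of_mul_eq_mul_right Nat.card_pos (h2.trans (by ring))
    rw [h3]
    exact (hpd'.mul_left _).mul_right _
  have hdvd₁ : a₁ ∣ q ^ 2 + 1 := card_torus_dvd hF hm hg₁
  have hlt₁ : a₁ ≠ q ^ 2 + 1 := by
    intro heq
    have hall : {g : G | Fpf g} = cls (Subgroup.centralizer {g₁}) := by
      refine Set.Subset.antisymm (fun g hg => ?_) (hsub hg₁)
      obtain ⟨w, -, ha5, -, -⟩ := hdata hg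
      obtain ⟨p, hp, hpa⟩ := Nat.exists_prime_and_dvd
        (show Nat.card (Subgroup.centralizer {g}) ≠ 1 by omega)
      refine hconj hg₁ hg p hp ?_ hpa
      rw [← ha₁, heq]
      exact hpa.trans (card_torus_dvd hF hm hg)
    rw [hall] at hE
    rw [heq, hcard, show q ^ 2 + 1 - 1 = q ^ 2 by simp] at hΓ₁
    obtain ⟨r, hr⟩ := Nat.exists_eq_add_of_le (show 1 ≤ q by omega)
    rw [hr, show 1 + r - 1 = r by omega] at hE hΓ₁
    generalize (cls (Subgroup.centralizer {g₁})).ncard = Γ at hE hΓ₁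
    have h2 : ((1 + r) ^ 3 * r * ((1 + r) ^ 2 + 1)) * (r * w₁)
        = ((1 + r) ^ 3 * r * ((1 + r) ^ 2 + 1)) * (2 * (1 + r)) := by
      calc _ = ((1 + r) ^ 3 * r ^ 2) * (((1 + r) ^ 2 + 1) * w₁) := by ring
        _ = 2 * (Γ * (((1 + r) ^ 2 + 1) * w₁)) := by rw [← hE]; ring
        _ = _ := by rw [hΓ₁]; ring
    have hr0 : 0 < r := by omega
    have h3 := Nat.eq_of_mul_eq_mul_left (by positivity) h2
    have h4 : r ∣ 2 := (Nat.dvd_add_left (dvd_mul_left r 2)).1 ⟨w₁, by rw [h3]; ring⟩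
    have := Nat.le_of_dvd (by norm_num) h4
    omega
  obtain ⟨c₁, hc₁⟩ := hdvd₁
  have hc₁1 : c₁ ≠ 1 := fun h => hlt₁ (by rw [hc₁, h, mul_one])
  obtain ⟨p₂, hp₂, hp₂c⟩ := Nat.exists_prime_and_dvd hc₁1
  have hp₂d : p₂ ∣ q ^ 2 + 1 := hc₁ ▸ hp₂c.mul_left a₁
  obtain ⟨g₂, hg₂, hp₂a⟩ := hex p₂ hp₂ hp₂d
  obtain ⟨w₂, hw₂, ha₂5, hN₂, hΓ₂⟩ := hdata hg₂
  set a₂ := Nat.card (Subgroup.centralizer {g₂}) with ha₂
  have hp₂n : ¬ p₂ ∣ a₁ := fun h => hfull hg₁ p₂ hp₂ h (by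
    rw [← ha₁, hc₁, Nat.mul_div_cancel_left _ (by omega)]; exact hp₂c)
  have hdisj : Disjoint (cls (Subgroup.centralizer {g₁})) (cls (Subgroup.centralizer {g₂})) :=
    by_contra fun h => hp₂n (by rw [ha₁, hcop hg₁ hg₂ h, ← ha₂]; exact hp₂a)
  have hco12 : Nat.Coprime a₁ a₂ := Nat.coprime_of_dvd fun p hp h1 h2 => by
    obtain ⟨h, e⟩ := torus_conj hF hm hg₁ hg₂ hp h1 h2
    have h3 := congrArg (fun H : Subgroup G => Nat.card H) e
    rw [← Nat.card_congr (Subgroup.equivMapOfInjective _ _ (MulAut.conj h).injective).toEquiv] at h3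
    exact hp₂n (by rw [ha₁, ← h3, ← ha₂]; exact hp₂a)
  -- no third torus
  have hprod : a₁ * a₂ = q ^ 2 + 1 := by
    obtain ⟨c, hc⟩ := hco12.mul_dvd_of_dvd_of_dvd ⟨c₁, hc₁⟩ (card_torus_dvd hF hm hg₂)
    by_contra hne
    have hc1 : c ≠ 1 := fun h => hne (by rw [hc, h, mul_one])
    obtain ⟨p₃, hp₃, hp₃c⟩ := Nat.exists_prime_and_dvd hc1
    obtain ⟨g₃, hg₃, hp₃a⟩ := hex p₃ hp₃ (hc ▸ hp₃c.mul_left _)
    obtain ⟨w₃, hw₃, ha₃5, -, hΓ₃⟩ := hdata hg₃
    have hn₁ : ¬ p₃ ∣ a₁ := fun h => hfull hg₁ p₃ hp₃ h (by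
      rw [← ha₁, hc, mul_assoc, Nat.mul_div_cancel_left _ (by omega)]; exact hp₃c.mul_left _)
    have hn₂ : ¬ p₃ ∣ a₂ := fun h => hfull hg₂ p₃ hp₃ h (by
      rw [← ha₂, hc, mul_comm a₁, mul_assoc, Nat.mul_div_cancel_left _ (by omega)]
      exact hp₃c.mul_left _)
    have h13 : Disjoint (cls (Subgroup.centralizer {g₁})) (cls (Subgroup.centralizer {g₃})) :=
      by_contra fun h => hn₁ (by rw [ha₁, hcop hg₁ hg₃ h]; exact hp₃a)
    have h23 : Disjoint (cls (Subgroup.centralizer {g₂})) (cls (Subgroup.centralizer {g₃})) :=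
      by_contra fun h => hn₂ (by rw [ha₂, hcop hg₂ hg₃ h]; exact hp₃a)
    apply hbad
    have hle := Set.ncard_le_ncard (Set.union_subset (Set.union_subset (hsub hg₁) (hsub hg₂))
      (hsub hg₃)) (Set.toFinite _)
    rw [Set.ncard_union_eq (Set.disjoint_union_left.2 ⟨h13, h23⟩) (Set.toFinite _) (Set.toFinite _),
      Set.ncard_union_eq hdisj (Set.toFinite _) (Set.toFinite _)] at hle
    have := hd5 ha₁5 hw₁ hΓ₁
    have := hd5 ha₂5 hw₂ hΓ₂
    have := hd5 ha₃5 hw₃ hΓ₃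
    omega
  have hall : {g : G | Fpf g}
      = cls (Subgroup.centralizer {g₁}) ∪ cls (Subgroup.centralizer {g₂}) := by
    refine Set.Subset.antisymm (fun g hg => ?_) (Set.union_subset (hsub hg₁) (hsub hg₂))
    obtain ⟨w, -, ha5, -, -⟩ := hdata hg
    obtain ⟨p, hp, hpa⟩ := Nat.exists_prime_and_dvd
      (show Nat.card (Subgroup.centralizer {g}) ≠ 1 by omega)
    have : p ∣ a₁ * a₂ := hprod ▸ hpa.trans (card_torus_dvd hF hm hg)
    rcases hp.dvd_mul.1 this with h | h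
    · exact Or.inl (hconj hg₁ hg p hp h hpa)
    · exact Or.inr (hconj hg₂ hg p hp h hpa)
  rw [hall, Set.ncard_union_eq hdisj (Set.toFinite _) (Set.toFinite _)] at hE
  rw [hall, Set.ncard_union_eq hdisj (Set.toFinite _) (Set.toFinite _)] at hbad
  have hweq : ∀ {a w Γ Γ' : ℕ}, 5 ≤ a → w ∣ 4 → Γ * (a * w) = (a - 1) * Nat.card G →
      Nat.card G ≤ 5 * Γ' → ¬ (3 * Nat.card G ≤ 5 * (Γ + Γ')) → w = 4 := by
    intro a w Γ Γ' ha hw he hother hb
    by_contra hne
    have hw2 : w ≤ 2 := by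
      have := Nat.le_of_dvd (by norm_num) hw
      interval_cases w <;> simp_all (config := { decide := true })
    apply hb
    have : 2 * Nat.card G ≤ 5 * Γ := by
      obtain ⟨b, rfl⟩ : ∃ b, a = b + 5 := ⟨a - 5, by omega⟩
      rw [show b + 5 - 1 = b + 4 by omega] at he
      refine Nat.le_of_mul_le_mul_left ?_ (show 0 < b + 4 by omega)
      rw [mul_left_comm, ← he]
      calc 2 * (Γ * ((b + 5) * w)) ≤ 2 * (Γ * ((b + 5) * 2)) := by gcongr
        _ = Γ * ((b + 5) * 4) := by ring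
        _ ≤ Γ * ((b + 4) * 5) := by gcongr Γ * ?_; omega
        _ = (b + 4) * (5 * Γ) := by ring
    omega
  have hw₁4 : w₁ = 4 := hweq ha₁5 hw₁ hΓ₁ (hd5 ha₂5 hw₂ hΓ₂) hbad
  have hw₂4 : w₂ = 4 := hweq ha₂5 hw₂ hΓ₂ (hd5 ha₁5 hw₁ hΓ₁) (by rwa [add_comm] at hbad)
  subst hw₁4 hw₂4
  rw [mul_comm a₁ 4] at hN₁
  rw [mul_comm a₂ 4] at hN₂
  have hsum : a₁ + a₂ = 2 * q + 2 := by
    rw [hcard] at hΓ₁ hΓ₂
    generalize (cls (Subgroup.centralizer {g₁})).ncard = Γ₁ at hΓ₁ hE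
    generalize (cls (Subgroup.centralizer {g₂})).ncard = Γ₂ at hΓ₂ hE
    have hq1 : (1 : ℕ) ≤ q := by omega
    zify [hq1, show 1 ≤ a₁ by omega, show 1 ≤ a₂ by omega] at hΓ₁ hΓ₂ hE hprod ⊢
    have key : ((q : ℤ) ^ 2 * ((q : ℤ) ^ 2 + 1) * ((q : ℤ) - 1))
        * ((a₁ : ℤ) + a₂ - (2 * q + 2)) = 0 := by
      linear_combination (a₂ : ℤ) * hΓ₁ + (a₁ : ℤ) * hΓ₂ + (-2 * (a₁ * a₂ : ℤ)) * hE
        + (2 * (q : ℤ) ^ 2 * ((q : ℤ) ^ 2 + 1) * ((q : ℤ) - 1)) * hprod
        - (2 * (q : ℤ) ^ 3 * ((q : ℤ) - 1) ^ 2) * hprod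
    rcases mul_eq_zero.1 key with h | h
    · exfalso
      have h8' : (8 : ℤ) ≤ q := by exact_mod_cast h8
      have : (0 : ℤ) < (q : ℤ) ^ 2 * ((q : ℤ) ^ 2 + 1) * ((q : ℤ) - 1) := by
        have : (0 : ℤ) < (q : ℤ) - 1 := by linarith
        positivity
      linarith
    · linarith
  have hsol : a₁ = q + 2 ^ (m + 1) + 1 ∧ a₂ = q - 2 ^ (m + 1) + 1 ∨
      a₂ = q + 2 ^ (m + 1) + 1 ∧ a₁ = q - 2 ^ (m + 1) + 1 := by
    have hss : 2 ^ (m + 1) * 2 ^ (m + 1) = 2 * q := by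
      rw [hF, ← pow_add, ← pow_succ']
      congr 1
      ring
    have hsq : 2 ^ (m + 1) ≤ q := by
      rw [hF]; exact Nat.pow_le_pow_right (by norm_num) (by omega)
    have key : ((a₁ : ℤ) - (q + 1)) * ((a₁ : ℤ) - (q + 1))
        = ((2 ^ (m + 1) : ℕ) : ℤ) * ((2 ^ (m + 1) : ℕ) : ℤ) := by
      zify at hprod hsum hss ⊢
      linear_combination (-1 : ℤ) * hprod + (a₁ : ℤ) * hsum - hss
    rcases mul_self_eq_mul_self_iff.1 key with h | h
    · left; omega
    · right; omega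
  rcases hsol with ⟨h1, h2⟩ | ⟨h1, h2⟩
  · exact ⟨g₁, g₂, hg₁, hg₂, h1, h2, hN₁, hN₂⟩
  · exact ⟨g₂, g₁, hg₂, hg₁, h1, h2, hN₂, hN₁⟩

theorem tori_statement (hm : 1 ≤ m) :
    ∀ k ∈ ({2 ^ (2 * m + 1) + 2 ^ (m + 1) + 1, 2 ^ (2 * m + 1) - 2 ^ (m + 1) + 1} : Set ℕ),
      ∃ U : Subgroup (Cfsg.Sz F m), IsCyclic U ∧ Nat.card U = k ∧
        (∀ u ∈ U, u ≠ 1 → Subgroup.centralizer {u} = U) ∧
          Nat.card (Subgroup.normalizer (U : Set (Cfsg.Sz F m))) = 4 * k := by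
  obtain ⟨g₁, g₂, hg₁, hg₂, h1, h2, h3, h4⟩ := torus_orders hF hm
  rw [hF] at h1 h2
  intro k hk
  rcases hk with rfl | rfl
  · exact ⟨_, (torus hF hm hg₁).1, h1, fun u hu hu1 => ((torus hF hm hg₁).2 u hu hu1).2,
      h3.trans (congrArg (4 * ·) h1)⟩
  · exact ⟨_, (torus hF hm hg₂).1, h2, fun u hu hu1 => ((torus hF hm hg₂).2 u hu hu1).2,
      h4.trans (congrArg (4 * ·) h2)⟩

end Cfsg.Agent.Suzuki
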