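import Mathlib

/-!
Additive maps `A` of a field of order `2 ^ n`, `n` odd, for which `σ(A x) * A x` is an additive
function of `σ x * x`, `σ x = x ^ (2 ^ t)`, `2 * t = n + 1`, are semilinear.
-/

set_option autoImplicit false

namespace Cfsg.Agent.Suzuki.SemilinearQuad

variable {F : Type*} [Field F] [Fintype F] {n : ℕ} [NeZero n]

/-- The Frobenius maps indexed by `ZMod n`. -/
def fr (u : ZMod n) (x : F) : F := x ^ 2 ^ u.val

variable (hF : Fintype.card F = 2 ^ n)
include hF

theorem char_two : CharP F 2 := charP_of_card_eq_prime_pow hF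

theorem pow_two_pow_mod (k : ℕ) (x : F) : x ^ 2 ^ k = x ^ 2 ^ (k % n) := by
  conv_lhs => rw [← Nat.div_add_mod k n, pow_add, pow_mul 2 n, ← hF, mul_comm, pow_mul]
  rw [FiniteField.pow_card_pow]

theorem fr_add_idx (u v : ZMod n) (x : F) : fr (u + v) x = fr u (fr v x) := by
  rw [fr, fr, fr, ← pow_mul, ← pow_add, ZMod.val_add, ← pow_two_pow_mod hF, add_comm]

theorem fr_add (u : ZMod n) (x y : F) : fr u (x + y) = fr u x + fr u y := by
  have := char_two hF
  exact add_pow_char_pow x y 2 u.val

omit hF in
theorem fr_mul (u : ZMod n) (x y : F) : fr u (x * y) = fr u x * fr u y := mul_pow _ _ _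

theorem fr_sum {ι : Type*} (s : Finset ι) (u : ZMod n) (f : ι → F) :
    fr u (∑ i ∈ s, f i) = ∑ i ∈ s, fr u (f i) := by
  classical
  induction s using Finset.induction_on with
  | empty => simp [fr]
  | insert i s hi ih => rw [Finset.sum_insert hi, Finset.sum_insert hi, fr_add hF, ih]

omit hF in
theorem fr_eq_zero {u : ZMod n} {x : F} : fr u x = 0 ↔ x = 0 := by simp [fr]

theorem fr_injective_idx {u v : ZMod n} (h : ∀ x : F, fr u x = fr v x) : u = v := by
  classical
  obtain ⟨g, hg⟩ := IsCyclic.exists_generator (α := Fˣ)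
  have hord : orderOf g = 2 ^ n - 1 := by
    rw [orderOf_eq_card_of_forall_mem_zpowers hg, Nat.card_eq_fintype_card, Fintype.card_units, hF]
  have h' : g ^ 2 ^ u.val = g ^ 2 ^ v.val := Units.ext (by push_cast; exact h g)
  have hlt : ∀ w : ZMod n, 2 ^ w.val < 2 ^ n - 1 ∨ n = 1 := fun w => by
    rcases Nat.lt_or_ge n 2 with hn | hn
    · right; have := NeZero.pos n; omega
    left
    have h1 : 2 ^ w.val ≤ 2 ^ (n - 1) := Nat.pow_le_pow_right (by norm_num)
      (by have := w.val_lt; omega)
    have h2 : 2 ≤ 2 ^ (n - 1) := by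
      calc 2 = 2 ^ 1 := rfl
        _ ≤ _ := Nat.pow_le_pow_right (by norm_num) (by omega)
    have h3 : 2 ^ n = 2 ^ (n - 1) * 2 := by rw [← pow_succ]; congr 1; omega
    omega
  apply ZMod.val_injective
  rcases hlt u with hu | hn
  · rcases hlt v with hv | hn
    · exact Nat.pow_right_injective le_rfl
        (pow_injOn_Iio_orderOf (x := g) (by rw [hord]; exact hu) (by rw [hord]; exact hv) h')
    · have h1 := u.val_lt; have h2 := v.val_lt; omega
  · have h1 := u.val_lt; have h2 := v.val_lt; omega

/-- Linearised polynomials are determined by their values. -/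
theorem coeff_eq_zero {a : ZMod n → F} (h : ∀ x : F, ∑ u, a u * fr u x = 0) : a = 0 := by
  classical
  let f : Polynomial F := ∑ u, Polynomial.C (a u) * Polynomial.X ^ 2 ^ u.val
  have hdeg : f.natDegree < Fintype.card F := by
    rw [hF]
    refine lt_of_le_of_lt (Polynomial.natDegree_sum_le_of_forall_le _ _ (n := 2 ^ (n - 1)) ?_) ?_
    · exact fun u _ => (Polynomial.natDegree_C_mul_X_pow_le _ _).trans
        (Nat.pow_le_pow_right (by norm_num) (by have := u.val_lt; omega))
    · exact Nat.pow_lt_pow_right (by norm_num) (by have := NeZero.pos n; omega)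
  have hf : f = 0 := Polynomial.eq_zero_of_natDegree_lt_card_of_eval_eq_zero f
    (f := id) Function.injective_id (fun x => by simpa [f, fr, Polynomial.eval_finset_sum] using h x)
    hdeg
  funext u
  have hc := congrArg (fun g : Polynomial F => g.coeff (2 ^ u.val)) hf
  simp only [f, Polynomial.finset_sum_coeff, Polynomial.coeff_C_mul, Polynomial.coeff_X_pow,
    Polynomial.coeff_zero, mul_ite, mul_one, mul_zero] at hc
  rw [Finset.sum_eq_single u] at hc
  · simpa using hc
  · intro v _ hv
    rw [if_neg]
    exact fun he => hv (ZMod.val_injective n (Nat.pow_right_injective le_rfl he.symm))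
  · simp

/-- The number of additive endomorphisms. -/
theorem card_addHom : Nat.card (F →+ F) = 2 ^ (n * n) := by
  classical
  have := char_two hF
  let : Algebra (ZMod 2) F := ZMod.algebra F 2
  let e : (F →+ F) ≃ (F →ₗ[ZMod 2] F) :=
    { toFun := fun f => AddMonoidHom.toZModLinearMap 2 f
      invFun := fun f => f.toAddMonoidHom
      left_inv := fun f => rfl
      right_inv := fun f => rfl }
  have hfr : Module.finrank (ZMod 2) F = n := by
    have h := Module.card_eq_pow_finrank (K := ZMod 2) (V := F)
    rw [hF, ZMod.card] at h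
    exact (Nat.pow_right_injective le_rfl h).symm
  rw [Nat.card_congr e, Module.natCard_eq_pow_finrank (K := ZMod 2), Module.finrank_linearMap,
    Nat.card_zmod, hfr]

/-- Every additive map is a linearised polynomial. -/
theorem exists_coeff (A : F →+ F) : ∃ a : ZMod n → F, ∀ x, A x = ∑ u, a u * fr u x := by
  classical
  let Φ : (ZMod n → F) → (F →+ F) := fun a => AddMonoidHom.mk' (fun x => ∑ u, a u * fr u x)
    fun x y => by simp only [fr_add hF, mul_add, Finset.sum_add_distrib]
  have hinj : Function.Injective Φ := by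
    intro a b h
    rw [← sub_eq_zero]
    refine coeff_eq_zero hF fun x => ?_
    have h' : ∑ u, a u * fr u x = ∑ u, b u * fr u x := congrArg (fun f : F →+ F => f x) h
    simp only [Pi.sub_apply, sub_mul, Finset.sum_sub_distrib, h', sub_self]
  have : Finite (F →+ F) := Finite.of_injective _ DFunLike.coe_injective
  have hbij : Function.Bijective Φ := hinj.bijective_of_nat_card_le (by
    rw [card_addHom hF, Nat.card_fun, Nat.card_eq_fintype_card (α := F), hF, Nat.card_zmod,
      ← pow_mul])
  obtain ⟨a, ha⟩ := hbij.2 A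
  exact ⟨a, fun x => (congrArg (fun f : F →+ F => f x) ha).symm⟩

/-- A quadratic form in the Frobenius maps vanishing identically has a symmetric matrix with zero
diagonal. -/
theorem quad_eq_zero {M : ZMod n → ZMod n → F} (h : ∀ x : F, ∑ u, ∑ v, M u v * (fr u x * fr v x) = 0) :
    (∀ u v, M u v = M v u) ∧ ∀ u, M u u = 0 := by
  classical
  have := char_two hF
  have hsymm : ∀ u v, M u v = M v u := by
    have h2 : ∀ x y : F, ∑ u, ∑ v, (M u v + M v u) * (fr u x * fr v y) = 0 := by
      intro x y
      have hxy := h (x + y)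
      have hswap : ∑ u, ∑ v, M v u * (fr u x * fr v y) = ∑ u, ∑ v, M u v * (fr u y * fr v x) := by
        rw [Finset.sum_comm]
        exact Finset.sum_congr rfl fun u _ => Finset.sum_congr rfl fun v _ => by ring
      have hexp : ∑ u, ∑ v, M u v * (fr u (x + y) * fr v (x + y))
          = (∑ u, ∑ v, M u v * (fr u x * fr v x) + ∑ u, ∑ v, M u v * (fr u y * fr v y))
            + ∑ u, ∑ v, (M u v + M v u) * (fr u x * fr v y) := by
        simp only [add_mul, Finset.sum_add_distrib, hswap, fr_add hF, mul_add, add_mul]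
        abel
      rw [hexp, h x, h y, zero_add, zero_add] at hxy
      exact hxy
    intro u v
    have h3 : ∀ y : F, ∀ u, ∑ v, (M u v + M v u) * fr v y = 0 := fun y u =>
      congrFun (coeff_eq_zero hF (a := fun u => ∑ v, (M u v + M v u) * fr v y) fun x => by
        rw [← h2 x y]
        refine Finset.sum_congr rfl fun u _ => ?_
        rw [Finset.sum_mul]
        exact Finset.sum_congr rfl fun v _ => by ring) u
    have h4 := congrFun (coeff_eq_zero hF (a := fun v => M u v + M v u) fun y => h3 y u) v
    exact CharTwo.add_eq_zero.1 h4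
  refine ⟨hsymm, fun u => ?_⟩
  by_cases hn1 : n = 1
  · subst hn1
    have h1 := h 1
    rw [Fintype.sum_subsingleton _ u, Fintype.sum_subsingleton _ u] at h1
    simpa [fr] using h1
  have hdiag : ∀ x : F, ∑ u, M u u * (fr u x * fr u x) = 0 := by
    intro x
    rw [← h x]
    simp only [← Finset.sum_product' (f := fun u v => M u v * (fr u x * fr v x))]
    rw [← Finset.sum_filter_add_sum_filter_not _ (fun p : ZMod n × ZMod n => p.1 = p.2)]
    rw [Finset.sum_involution (s := Finset.filter (fun p : ZMod n × ZMod n => ¬ p.1 = p.2) _)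
      (g := fun p _ => p.swap) (fun p _ => by
        rw [Prod.fst_swap, Prod.snd_swap, hsymm p.2 p.1, mul_comm (fr p.2 x)]
        exact CharTwo.add_self_eq_zero _)
      (fun p hp _ he => (Finset.mem_filter.1 hp).2 (congrArg Prod.snd he))
      (fun p hp => by
        simp only [Finset.mem_filter, Finset.mem_product, Finset.mem_univ, true_and,
          Prod.fst_swap, Prod.snd_swap, and_self] at hp ⊢
        exact Ne.symm hp)
      (fun p _ => Prod.swap_swap p), add_zero]
    refine Finset.sum_nbij' (fun u => (u, u)) (fun p => p.1) ?_ ?_ ?_ ?_ ?_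
    all_goals intro p hp
    all_goals simp at hp ⊢
    exact Prod.ext rfl hp
  have h5 : ∀ x : F, ∑ v, M (v - 1) (v - 1) * fr v x = 0 := by
    intro x
    rw [← hdiag x]
    refine Fintype.sum_equiv (Equiv.subRight (1 : ZMod n)) _ _ fun v => ?_
    show _ = M (v - 1) (v - 1) * (fr (v - 1) x * fr (v - 1) x)
    congr 1
    rw [← pow_two, show v = 1 + (v - 1) by ring, fr_add_idx hF, add_sub_cancel_left,
      fr, ZMod.val_one'' hn1, pow_one]
  simpa using congrFun (coeff_eq_zero hF h5) (u + 1)

/-- **The semilinearity.** -/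
theorem semilinear {t : ℕ} (ht : 2 * t = n + 1) (hn : 3 ≤ n) (A : F →+ F) (hA : A ≠ 0)
    (B : F →+ F) (h : ∀ x, B (x ^ 2 ^ t * x) = A x ^ 2 ^ t * A x) :
    ∃ c : F, c ≠ 0 ∧ ∃ i : ZMod n, ∀ x, A x = c * fr i x := by
  classical
  obtain ⟨a, ha⟩ := exists_coeff hF A
  obtain ⟨b, hb⟩ := exists_coeff hF B
  set s : ZMod n := (t : ZMod n) with hs
  have hsval : s.val = t := by rw [hs, ZMod.val_natCast, Nat.mod_eq_of_lt (by omega)]
  have hs0 : s ≠ 0 := fun h0 => by
    rw [h0, ZMod.val_zero] at hsval; omega
  have h4 : s + s + (s + s) ≠ 0 := by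
    intro h0
    have h1 : ((4 * t : ℕ) : ZMod n) = 0 := by push_cast; rw [← hs]; linear_combination h0
    rw [show 4 * t = 2 + 2 * n by omega, Nat.cast_add, Nat.cast_mul, ZMod.natCast_self,
      mul_zero, add_zero, ZMod.natCast_eq_zero_iff] at h1
    have := Nat.le_of_dvd (by norm_num) h1
    omega
  let M : ZMod n → ZMod n → F := fun u v => fr s (a (u - s)) * a v - if u = v + s then b v else 0
  obtain ⟨hsymm, hdiag⟩ := quad_eq_zero hF (M := M) (by
    intro x
    have h1 := h x
    have hp : ∀ y : F, y ^ 2 ^ t = fr s y := fun y => by rw [fr, hsval]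
    rw [hp, hp, ha, hb, fr_sum hF] at h1
    have e1 : ∑ u, ∑ v, fr s (a (u - s)) * a v * (fr u x * fr v x)
        = (∑ i, fr s (a i * fr i x)) * ∑ j, a j * fr j x := by
      rw [Finset.sum_mul]
      refine Fintype.sum_equiv (Equiv.subRight s) _ _ fun u => ?_
      rw [Finset.mul_sum]
      refine Finset.sum_congr rfl fun v _ => ?_
      show _ = fr s (a (u - s) * fr (u - s) x) * _
      rw [fr_mul, ← fr_add_idx hF, add_sub_cancel]
      ring
    have e2 : ∑ u, ∑ v, (if u = v + s then b v else 0) * (fr u x * fr v x)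
        = ∑ v, b v * fr v (fr s x * x) := by
      rw [Finset.sum_comm]
      refine Finset.sum_congr rfl fun v _ => ?_
      simp only [ite_mul, zero_mul, Finset.sum_ite_eq', Finset.mem_univ, if_true]
      rw [fr_mul, fr_add_idx hF]
    simp only [M, sub_mul, Finset.sum_sub_distrib]
    rw [e1, e2, h1, sub_self])
  have hsupp : ∀ i, a i ≠ 0 → a (i - s) = 0 := by
    intro i hi
    have h1 := hdiag i
    simp only [M] at h1
    rw [if_neg (fun h0 => hs0 (left_eq_add.1 h0)), sub_zero, mul_eq_zero, or_iff_left hi,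
      fr_eq_zero] at h1
    exact h1
  have hkey : ∀ i j, a i ≠ 0 → a j ≠ 0 → j = i ∨ j = i + s + s := by
    intro i j hi hj
    by_contra hcon
    push Not at hcon
    have h1 := hsymm (i + s) j
    simp only [M, add_sub_cancel_right] at h1
    rw [if_neg (fun h0 => hcon.1 (add_right_cancel h0).symm), if_neg hcon.2, hsupp j hj,
      show fr s (0 : F) = 0 from fr_eq_zero.2 rfl, zero_mul, sub_zero, sub_zero] at h1
    rcases mul_eq_zero.1 h1 with h2 | h2
    · exact hi (fr_eq_zero.1 h2)
    · exact hj h2
  obtain ⟨i, hi⟩ : ∃ i, a i ≠ 0 := by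
    by_contra hcon
    push Not at hcon
    exact hA (AddMonoidHom.ext fun x => by simp [ha, hcon])
  refine ⟨a i, hi, i, fun x => ?_⟩
  rw [ha, Finset.sum_eq_single i]
  · intro j _ hji
    by_contra hne
    have hj : a j ≠ 0 := fun h0 => hne (by rw [h0, zero_mul])
    have h1 := (hkey i j hi hj).resolve_left hji
    have h2 := (hkey j i hj hi).resolve_left (Ne.symm hji)
    rw [h1] at h2
    exact h4 (by linear_combination -h2)
  · simp

end Cfsg.Agent.Suzuki.SemilinearQuad
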