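import Cfsg.Agent.Lib.Suzuki.Sylow
import Cfsg.Agent.Lib.Suzuki.SemilinearQuad
import Cfsg.Prelude.Def_Solvable
import Cfsg.Prelude.Def_Transfer

/-!
The automorphism group of a Sylow 2-subgroup of a Suzuki group.
-/

set_option autoImplicit false

namespace Cfsg.Agent.Suzuki

open SemilinearQuad (fr)

variable {F : Type*} [Field F] [Fintype F] {m : ℕ}
variable (hF : Fintype.card F = 2 ^ (2 * m + 1))
include hF

theorem sigNorm_surjective : Function.Surjective fun x : F => sig m x * x := by
  refine Finite.injective_iff_surjective.1 fun x y h => ?_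
  have h : sig m x * x = sig m y * y := h
  by_cases hx : x = 0
  · subst hx
    rw [mul_zero, eq_comm, mul_eq_zero, sig_eq_zero, or_self] at h
    exact h.symm
  by_cases hy : y = 0
  · subst hy
    rw [mul_zero, mul_eq_zero, sig_eq_zero, or_self] at h
    exact h
  have h2 : x * y⁻¹ * sig m (x * y⁻¹) = 1 := by
    rw [sig_mul, sig_inv]
    calc x * y⁻¹ * (sig m x * (sig m y)⁻¹) = (sig m x * x) * (sig m y * y)⁻¹ := by
          rw [mul_inv]; ring
      _ = 1 := by rw [h]; exact mul_inv_cancel₀ (mul_ne_zero (sig_ne_zero hy) hy)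
  have := eq_one_of_mul_sig hF (mul_ne_zero hx (inv_ne_zero hy)) h2
  rwa [← div_eq_mul_inv, div_eq_one_iff_eq hy] at this

/-- The element with coordinates `(a, b)`. -/
noncomputable def el (a b : F) : USub hF := USubEquiv hF (a, b)

/-- The coordinates. -/
noncomputable def coo (g : USub hF) : F × F := (USubEquiv hF).symm g

theorem el_coo (g : USub hF) : el hF (coo hF g).1 (coo hF g).2 = g :=
  (USubEquiv hF).apply_symm_apply g

theorem coo_el (a b : F) : coo hF (el hF a b) = (a, b) := (USubEquiv hF).symm_apply_apply (a, b)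

theorem el_mul (a b c d : F) :
    el hF a b * el hF c d = el hF (a + c) (b + d + sig m a * c) := Subtype.ext (U_mul hF a b c d)

theorem coo_mul (g h : USub hF) : coo hF (g * h) =
    ((coo hF g).1 + (coo hF h).1, (coo hF g).2 + (coo hF h).2 + sig m (coo hF g).1 * (coo hF h).1) := by
  conv_lhs => rw [← el_coo hF g, ← el_coo hF h, el_mul hF, coo_el hF]

theorem el_sq (a b : F) : el hF a b * el hF a b = el hF 0 (sig m a * a) := by
  rw [el_mul hF, add_self hF, add_self hF, zero_add]

/-- The first coordinate of the image. -/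
noncomputable def fstMap (φ : MulAut (USub hF)) (a : F) : F := (coo hF (φ (el hF a 0))).1

theorem fst_center (φ : MulAut (USub hF)) (b : F) : (coo hF (φ (el hF 0 b))).1 = 0 := by
  obtain ⟨a, rfl⟩ := sigNorm_surjective hF b
  show (coo hF (φ (el hF 0 (sig m a * a)))).1 = 0
  rw [← el_sq hF a 0, map_mul, coo_mul hF]
  exact add_self hF _

theorem el_split (a b : F) : el hF a b = el hF a 0 * el hF 0 b := by
  rw [el_mul hF, add_zero, zero_add, mul_zero, add_zero]

theorem fst_apply (φ : MulAut (USub hF)) (g : USub hF) :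
    (coo hF (φ g)).1 = fstMap hF φ (coo hF g).1 := by
  conv_lhs => rw [← el_coo hF g, el_split hF, map_mul, coo_mul hF]
  show _ + (coo hF (φ (el hF 0 _))).1 = _
  rw [fst_center hF, add_zero, fstMap]

theorem fstMap_add (φ : MulAut (USub hF)) (a c : F) :
    fstMap hF φ (a + c) = fstMap hF φ a + fstMap hF φ c := by
  have h := congrArg Prod.fst (congrArg (coo hF) (map_mul φ (el hF a 0) (el hF c 0)))
  rw [fst_apply hF, coo_mul hF, coo_mul hF, coo_el hF, coo_el hF] at h
  exact h

theorem fstMap_mul (φ ψ : MulAut (USub hF)) (a : F) :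
    fstMap hF (φ * ψ) a = fstMap hF φ (fstMap hF ψ a) := by
  show (coo hF (φ (ψ (el hF a 0)))).1 = _
  rw [fst_apply hF]
  rfl

theorem fstMap_one (a : F) : fstMap hF 1 a = a := by
  show (coo hF (el hF a 0)).1 = a
  rw [coo_el hF]

/-- The action on `USub / ZSub`. -/
noncomputable def quotAct : MulAut (USub hF) →* Equiv.Perm F where
  toFun φ :=
    { toFun := fstMap hF φ
      invFun := fstMap hF φ⁻¹
      left_inv := fun a => by rw [← fstMap_mul hF, inv_mul_cancel, fstMap_one hF]
      right_inv := fun a => by rw [← fstMap_mul hF, mul_inv_cancel, fstMap_one hF] }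
  map_one' := Equiv.ext fun a => fstMap_one hF a
  map_mul' φ ψ := Equiv.ext fun a => fstMap_mul hF φ ψ a

theorem quotAct_eq_one {φ : MulAut (USub hF)} : φ ∈ (quotAct hF).ker ↔ ∀ a, fstMap hF φ a = a := by
  rw [MonoidHom.mem_ker]
  exact ⟨fun h a => Equiv.Perm.ext_iff.1 h a, fun h => Equiv.ext h⟩

theorem ker_apply {φ : MulAut (USub hF)} (h : φ ∈ (quotAct hF).ker) (a b : F) :
    φ (el hF a b) = el hF a (b + (coo hF (φ (el hF a 0))).2) := by
  rw [quotAct_eq_one hF] at h
  have hel : ∀ a b : F, φ (el hF a b) = el hF a ((coo hF (φ (el hF a b))).2) := fun a b => by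
    conv_lhs => rw [← el_coo hF (φ (el hF a b)), fst_apply hF, coo_el hF, h]
  have hz : ∀ b : F, φ (el hF 0 b) = el hF 0 b := by
    intro b
    obtain ⟨c, rfl⟩ := sigNorm_surjective hF b
    show φ (el hF 0 (sig m c * c)) = _
    rw [← el_sq hF c 0, map_mul, hel c 0, el_sq hF, el_sq hF]
  rw [el_split hF a b, map_mul, hz, hel a 0, el_mul hF, coo_el hF, add_zero, mul_zero, add_zero,
    add_comm]

/-- The automorphism attached to an additive map. -/
noncomputable def shear (C : F →+ F) : MulAut (USub hF) where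
  toFun g := el hF (coo hF g).1 ((coo hF g).2 + C (coo hF g).1)
  invFun g := el hF (coo hF g).1 ((coo hF g).2 + C (coo hF g).1)
  left_inv g := by
    simp only [coo_el hF, add_assoc, add_self hF, add_zero, el_coo hF]
  right_inv g := by
    simp only [coo_el hF, add_assoc, add_self hF, add_zero, el_coo hF]
  map_mul' g h := by
    simp only [coo_mul hF, el_mul hF, map_add]
    congr 1
    abel

theorem shear_apply (C : F →+ F) (a b : F) : shear hF C (el hF a b) = el hF a (b + C a) := by
  show el hF _ _ = _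
  rw [coo_el hF]

/-- The kernel of the action. -/
noncomputable def kerEquiv : (quotAct hF).ker ≃ (F →+ F) where
  toFun φ := AddMonoidHom.mk' (fun a => (coo hF ((φ : MulAut (USub hF)) (el hF a 0))).2) fun a c => by
    have h := map_mul (φ : MulAut (USub hF)) (el hF a 0) (el hF c 0)
    rw [el_mul hF, ker_apply hF φ.2, ker_apply hF φ.2 a 0, ker_apply hF φ.2 c 0, el_mul hF] at h
    have h' := congrArg (fun g => (coo hF g).2) h
    simp only [coo_el hF] at h'
    linear_combination h'
  invFun C := ⟨shear hF C, (quotAct_eq_one hF).2 fun a => by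
    rw [fstMap, shear_apply hF, coo_el hF]⟩
  left_inv φ := Subtype.ext (MulEquiv.ext fun g => by
    conv_lhs => rw [← el_coo hF g]
    conv_rhs => rw [← el_coo hF g, ker_apply hF φ.2]
    exact shear_apply hF _ _ _)
  right_inv C := AddMonoidHom.ext fun a => by
    show (coo hF (shear hF C (el hF a 0))).2 = C a
    rw [shear_apply hF, coo_el hF, zero_add]

/-- The semilinear automorphisms. -/
noncomputable def semi (c : Fˣ) (i : ZMod (2 * m + 1)) : MulAut (USub hF) :=
  MulEquiv.ofBijective
    (MonoidHom.mk' (fun g => el hF ((c : F) * fr i (coo hF g).1)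
      (sig m (c : F) * c * fr i (coo hF g).2)) fun g h => by
      have hcomm : ∀ x : F, sig m (fr i x) = fr i (sig m x) := fun x => by
        simp only [sig, fr, ← pow_mul, mul_comm]
      simp only [coo_mul hF, el_mul hF, SemilinearQuad.fr_add hF, SemilinearQuad.fr_mul, sig_mul,
        hcomm]
      congr 1 <;> ring)
    (Finite.injective_iff_bijective.1 fun g h e => by
      have e' := congrArg (coo hF) e
      simp only [MonoidHom.mk'_apply, coo_el hF, Prod.mk.injEq] at e'
      have hinj : ∀ x y : F, fr i x = fr i y → x = y := fun x y hxy => by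
        rw [← sub_eq_zero, ← SemilinearQuad.fr_eq_zero (u := i)]
        have h2 := SemilinearQuad.fr_add hF i (x - y) y
        rw [sub_add_cancel, hxy] at h2
        linear_combination -h2
      rw [← el_coo hF g, ← el_coo hF h,
        hinj _ _ (mul_left_cancel₀ c.ne_zero e'.1),
        hinj _ _ (mul_left_cancel₀ (mul_ne_zero (sig_ne_zero c.ne_zero) c.ne_zero) e'.2)])

theorem fstMap_semi (c : Fˣ) (i : ZMod (2 * m + 1)) (a : F) :
    fstMap hF (semi hF c i) a = (c : F) * fr i a := by
  show (coo hF (el hF _ _)).1 = _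
  rw [coo_el hF, coo_el hF]

theorem fstMap_semilinear (hm : 1 ≤ m) (φ : MulAut (USub hF)) :
    ∃ (c : Fˣ) (i : ZMod (2 * m + 1)), ∀ a, fstMap hF φ a = (c : F) * fr i a := by
  let A : F →+ F := AddMonoidHom.mk' (fstMap hF φ) (fstMap_add hF φ)
  let B : F →+ F := AddMonoidHom.mk' (fun b => (coo hF (φ (el hF 0 b))).2) fun b d => by
    have h := congrArg (fun g => (coo hF g).2) (map_mul φ (el hF 0 b) (el hF 0 d))
    simp only [el_mul hF, coo_mul hF, fst_center hF, add_zero, mul_zero] at h
    exact h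
  have hA : A ≠ 0 := fun h => by
    have h1 : fstMap hF φ (fstMap hF φ⁻¹ 1) = 0 := congrArg (fun f : F →+ F => f _) h
    rw [← fstMap_mul hF, mul_inv_cancel, fstMap_one hF] at h1
    exact one_ne_zero h1
  obtain ⟨c, hc, i, hi⟩ := SemilinearQuad.semilinear hF (t := m + 1) (by ring) (by omega) A hA B
    fun x => by
      show (coo hF (φ (el hF 0 (sig m x * x)))).2 = sig m (fstMap hF φ x) * fstMap hF φ x
      rw [← el_sq hF x 0, map_mul, coo_mul hF, fstMap]
      simp only [add_self hF, zero_add]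
  exact ⟨Units.mk0 c hc, i, hi⟩

theorem card_range (hm : 1 ≤ m) :
    Nat.card (quotAct hF).range = (2 * m + 1) * (2 ^ (2 * m + 1) - 1) := by
  let Ψ : Fˣ × ZMod (2 * m + 1) → (quotAct hF).range := fun p => ⟨quotAct hF (semi hF p.1 p.2), _, rfl⟩
  have hΨ : Function.Bijective Ψ := by
    constructor
    · intro p q h
      have h' : ∀ a, (p.1 : F) * fr p.2 a = (q.1 : F) * fr q.2 a := fun a => by
        have := Equiv.Perm.ext_iff.1 (congrArg Subtype.val h) a
        change fstMap hF (semi hF p.1 p.2) a = fstMap hF (semi hF q.1 q.2) a at this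
        rwa [fstMap_semi hF, fstMap_semi hF] at this
      have h1 := h' 1
      simp only [fr, one_pow, mul_one] at h1
      refine Prod.ext (Units.ext h1) (SemilinearQuad.fr_injective_idx hF fun a => ?_)
      have h2 := h' a
      rw [h1] at h2
      exact mul_left_cancel₀ q.1.ne_zero h2
    · rintro ⟨_, φ, rfl⟩
      obtain ⟨c, i, h⟩ := fstMap_semilinear hF hm φ
      exact ⟨(c, i), Subtype.ext (Equiv.ext fun a => (fstMap_semi hF c i a).trans (h a).symm)⟩
  classical
  rw [← Nat.card_eq_of_bijective Ψ hΨ, Nat.card_prod, Nat.card_zmod, Nat.card_eq_fintype_card,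
    Fintype.card_units, hF, mul_comm]

/-- **The automorphism group of the Sylow 2-subgroup.** -/
theorem aut_USub_structure (hm : 1 ≤ m) {S : Type*} [Group S] (e : S ≃* USub hF) :
    Cfsg.IsElementaryAbelian 2 (Cfsg.pCore 2 (MulAut S)) ∧
      Nat.card ↥(Cfsg.pCore 2 (MulAut S)) = 2 ^ ((2 * m + 1) ^ 2) ∧
      Nat.card (MulAut S) = 2 ^ ((2 * m + 1) ^ 2) * ((2 * m + 1) * (2 ^ (2 * m + 1) - 1)) := by
  have : Finite S := Finite.of_equiv _ e.symm.toEquiv
  let cg : MulAut S ≃* MulAut (USub hF) := MulAut.congr e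
  set π : MulAut S →* Equiv.Perm F := (quotAct hF).comp cg.toMonoidHom with hπ
  have hker : Nat.card π.ker = 2 ^ ((2 * m + 1) ^ 2) := by
    rw [pow_two, ← SemilinearQuad.card_addHom hF, ← Nat.card_congr (kerEquiv hF)]
    exact Nat.card_congr (cg.toEquiv.subtypeEquiv fun φ => Iff.rfl)
  have hrange : Nat.card π.range = (2 * m + 1) * (2 ^ (2 * m + 1) - 1) := by
    rw [hπ, MonoidHom.range_comp, MonoidHom.range_eq_top.2 cg.surjective, ← MonoidHom.range_eq_map,
      card_range hF hm]
  have hcore : Cfsg.pCore 2 (MulAut S) = π.ker := by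
    refine le_antisymm (sSup_le fun N hN => ?_) (le_sSup ⟨inferInstance, IsPGroup.of_card hker⟩)
    intro φ hφ
    rw [MonoidHom.mem_ker]
    obtain ⟨j, hj⟩ := hN.2 ⟨φ, hφ⟩
    have hj' : φ ^ 2 ^ j = 1 := congrArg Subtype.val hj
    have h1 : orderOf (⟨π φ, φ, rfl⟩ : π.range) ∣ 2 ^ j := orderOf_dvd_of_pow_eq_one
      (Subtype.ext (by show π φ ^ 2 ^ j = 1; rw [← map_pow, hj', map_one]))
    have h2 := orderOf_dvd_natCard (⟨π φ, φ, rfl⟩ : π.range)
    rw [hrange] at h2
    have hodd : Odd ((2 * m + 1) * (2 ^ (2 * m + 1) - 1)) :=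
      (odd_two_mul_add_one m).mul (Nat.Even.sub_odd (Nat.one_le_pow _ _ (by norm_num))
        (by simp [Nat.even_pow]) odd_one)
    have h3 := Nat.eq_one_of_dvd_coprimes ((Nat.coprime_two_right.2 hodd).pow_right j) h2 h1
    exact congrArg Subtype.val (orderOf_eq_one_iff.1 h3)
  rw [hcore]
  refine ⟨⟨⟨⟨fun φ ψ => ?_⟩⟩, fun φ hφ => ?_⟩, hker, ?_⟩
  · apply Subtype.ext
    show (φ : MulAut S) * (ψ : MulAut S) = (ψ : MulAut S) * (φ : MulAut S)
    apply cg.injective
    rw [map_mul, map_mul]
    refine MulEquiv.ext fun g => ?_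
    have hp : cg (φ : MulAut S) ∈ (quotAct hF).ker := φ.2
    have hs : cg (ψ : MulAut S) ∈ (quotAct hF).ker := ψ.2
    obtain ⟨dp, hp'⟩ : ∃ d : F → F, ∀ a b, cg (φ : MulAut S) (el hF a b) = el hF a (b + d a) :=
      ⟨_, ker_apply hF hp⟩
    obtain ⟨ds, hs'⟩ : ∃ d : F → F, ∀ a b, cg (ψ : MulAut S) (el hF a b) = el hF a (b + d a) :=
      ⟨_, ker_apply hF hs⟩
    rw [← el_coo hF g, MulAut.mul_apply, MulAut.mul_apply, hs', hp', hp', hs', add_right_comm]
  · apply cg.injective
    rw [map_pow, map_one, pow_two]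
    refine MulEquiv.ext fun g => ?_
    have hp : cg φ ∈ (quotAct hF).ker := hφ
    rw [← el_coo hF g, MulAut.mul_apply, ker_apply hF hp, ker_apply hF hp, add_assoc, add_self hF,
      add_zero]
    rfl
  · rw [← π.ker.card_mul_index, Subgroup.index_ker, hker, hrange]

end Cfsg.Agent.Suzuki
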