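import Cfsg.Agent.Lib.Suzuki.Singer
import Cfsg.Agent.Lib.Suzuki.Sylow

/-!
# Centralisers in the Suzuki group
-/

set_option autoImplicit false

namespace Cfsg.Agent.Suzuki

variable {F : Type*} [Field F] [Fintype F] {m : ℕ}

/-- `g` fixes no point of the ovoid. -/
def Fpf (g : Cfsg.Sz F m) : Prop := ∀ p ∈ Cfsg.suzukiOvoid F m, g • p ≠ p

theorem fpf_conj {g : Cfsg.Sz F m} (hg : Fpf g) (h : Cfsg.Sz F m) : Fpf (h * g * h⁻¹) := by
  intro p hp e
  apply hg (h⁻¹ • p) (smul_mem_ovoid _ hp)
  rw [mul_smul, mul_smul] at e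
  rw [eq_inv_smul_iff]
  exact e

theorem fpf_ne_one {g : Cfsg.Sz F m} (hg : Fpf g) : g ≠ 1 := fun h =>
  hg _ inf_mem_ovoid (by rw [h, one_smul])

omit [Fintype F] in
theorem centralizer_conj {G : Type*} [Group G] (g h : G) :
    Subgroup.centralizer {h * g * h⁻¹}
      = (Subgroup.centralizer {g}).map (MulAut.conj h).toMonoidHom := by
  ext x
  simp only [Subgroup.mem_map, Subgroup.mem_centralizer_singleton_iff, MulEquiv.coe_toMonoidHom,
    MulAut.conj_apply]
  constructor
  · intro hx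
    refine ⟨h⁻¹ * x * h, ?_, by group⟩
    have := congrArg (fun t => h⁻¹ * t * h) hx
    simpa [mul_assoc] using this
  · rintro ⟨y, hy, rfl⟩
    simp only [mul_assoc, inv_mul_cancel_left]
    rw [← mul_assoc y g, hy, mul_assoc]

variable (hF : Fintype.card F = 2 ^ (2 * m + 1))
include hF

theorem q_facts (hm : 1 ≤ m) : 8 ≤ Fintype.card F ∧ Even (Fintype.card F) := by
  rw [hF]
  refine ⟨?_, by simp [Nat.even_pow]⟩
  calc 8 = 2 ^ 3 := by norm_num
    _ ≤ 2 ^ (2 * m + 1) := Nat.pow_le_pow_right (by norm_num) (by omega)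

theorem U_fix {a b : F} {p : Projectivization F (Fin 4 → F)} (hp : p ∈ Cfsg.suzukiOvoid F m)
    (h : U hF a b • p = p) : p = Cfsg.suzukiPointInfinity F ∨ U hF a b = 1 := by
  rcases mem_ovoid.1 hp with rfl | ⟨x, y, rfl⟩
  · exact Or.inl rfl
  · rw [U_smul_pt] at h
    obtain ⟨h1, h2⟩ := pt_inj h
    have ha : a = 0 := by simpa using h1
    subst ha
    have hb : b = 0 := by simpa [sig_zero] using h2
    exact Or.inr (by rw [hb, U_zero])

theorem T_fix {k : Fˣ} {p : Projectivization F (Fin 4 → F)} (hp : p ∈ Cfsg.suzukiOvoid F m)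
    (h : T hF k • p = p) :
    p = Cfsg.suzukiPointInfinity F ∨ p = pt m 0 0 ∨ k = 1 := by
  rcases mem_ovoid.1 hp with rfl | ⟨x, y, rfl⟩
  · exact Or.inl rfl
  · by_cases hk : (k : F) = 1
    · exact Or.inr (Or.inr (Units.ext hk))
    rw [T_smul_pt] at h
    obtain ⟨h1, h2⟩ := pt_inj h
    refine Or.inr (Or.inl ?_)
    have hx : x = 0 := by
      by_contra hx
      exact hk (mul_eq_right₀ hx |>.1 h1)
    have hy : y = 0 := by
      by_contra hy
      exact hk (eq_one_of_mul_sig hF k.ne_zero (mul_eq_right₀ hy |>.1 h2))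
    rw [hx, hy]

/-- An element of the stabiliser of `∞` outside `USub` fixes a second point. -/
theorem U_T_fix (a b : F) (k : Fˣ) (hk : k ≠ 1) :
    ∃ x y : F, (U hF a b * T hF k) • pt m x y = pt m x y := by
  have hk1 : (1 : F) + k ≠ 0 := fun h => hk (Units.ext (eq_of_add_eq_zero hF h).symm)
  have hk2 : (1 : F) + k * sig m (k : F) ≠ 0 := fun h =>
    hk (Units.ext (eq_one_of_mul_sig hF k.ne_zero (eq_of_add_eq_zero hF h).symm))
  refine ⟨a / (1 + k), (b + sig m a * (k * (a / (1 + k)))) / (1 + k * sig m (k : F)), ?_⟩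
  rw [mul_smul, T_smul_pt, U_smul_pt]
  have e1 : (k : F) * (a / (1 + k)) + a = a / (1 + k) := by
    field_simp
    linear_combination a * k * two_eq_zero hF
  congr 1
  set c := b + sig m a * (k * (a / (1 + k))) with hc
  calc (k : F) * sig m (k : F) * (c / (1 + k * sig m (k : F))) + b + sig m a * (k * (a / (1 + k)))
      = k * sig m (k : F) * (c / (1 + k * sig m (k : F))) + c := by rw [hc]; ring
    _ = c / (1 + k * sig m (k : F)) := by
        field_simp
        linear_combination c * k * sig m (k : F) * two_eq_zero hF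

/-- The three types of non-identity elements. -/
theorem classify (hm : 1 ≤ m) {g : Cfsg.Sz F m} (hg : g ≠ 1) :
    Fpf g ∨ (∃ a b h, U hF a b ≠ 1 ∧ g = h * U hF a b * h⁻¹) ∨
      (∃ k h, k ≠ 1 ∧ g = h * T hF k * h⁻¹) := by
  by_cases hf : Fpf g
  · exact Or.inl hf
  right
  simp only [Fpf, not_forall, not_not] at hf
  obtain ⟨p, hp, hgp⟩ := hf
  by_cases h2 : ∃ r ∈ Cfsg.suzukiOvoid F m, r ≠ p ∧ g • r = r
  · obtain ⟨r, hr, hne, hgr⟩ := h2
    obtain ⟨h, h1, h2⟩ := exists_smul_pair hF hp hr hne.symm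
    obtain ⟨k, hk⟩ := eq_T_of_fix hF hm (h⁻¹ * g * h)
      (by rw [mul_smul, mul_smul, h1, hgp, ← h1, inv_smul_smul])
      (by rw [mul_smul, mul_smul, h2, hgr, ← h2, inv_smul_smul])
    refine Or.inr ⟨k, h, fun hk1 => hg ?_, by rw [← hk]; group⟩
    rw [hk1, T_one] at hk
    rwa [mul_assoc, inv_mul_eq_one, eq_comm, mul_eq_right] at hk
  · push Not at h2
    obtain ⟨h, h1⟩ := exists_smul_inf hF p hp
    obtain ⟨a, b, k, e⟩ := eq_U_T_of_fix hF hm (h⁻¹ * g * h)
      (by rw [mul_smul, mul_smul, h1, hgp, ← h1, inv_smul_smul])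
    by_cases hk : k = 1
    · rw [hk, T_one, mul_one] at e
      refine Or.inl ⟨a, b, h, fun hU => hg ?_, by rw [← e]; group⟩
      rw [hU, mul_assoc, inv_mul_eq_one, eq_comm, mul_eq_right] at e
      exact e
    · exfalso
      obtain ⟨x, y, hxy⟩ := U_T_fix hF a b k hk
      rw [← e, mul_smul, mul_smul, inv_smul_eq_iff] at hxy
      refine h2 (h • pt m x y) (smul_mem_ovoid _ (pt_mem_ovoid x y)) ?_ hxy
      rw [← h1]
      exact fun e' => pt_ne_inf x y (MulAction.injective h e')

theorem centralizer_U_le (hm : 1 ≤ m) {a b : F} (h1 : U hF a b ≠ 1) :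
    Subgroup.centralizer {U hF a b} ≤ USub hF := by
  intro h hh
  rw [Subgroup.mem_centralizer_singleton_iff] at hh
  have hinf : h • Cfsg.suzukiPointInfinity F = Cfsg.suzukiPointInfinity F := by
    have : U hF a b • (h • Cfsg.suzukiPointInfinity F) = h • Cfsg.suzukiPointInfinity F := by
      rw [← mul_smul, ← hh, mul_smul, U_smul_inf]
    exact (U_fix hF (smul_mem_ovoid _ inf_mem_ovoid) this).resolve_right h1
  obtain ⟨c, d, k, rfl⟩ := eq_U_T_of_fix hF hm h hinf
  by_cases hk : k = 1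
  · exact ⟨c, d, by rw [hk, T_one, mul_one]⟩
  exfalso
  obtain ⟨x, y, hxy⟩ := U_T_fix hF c d k hk
  set g := U hF c d * T hF k with hg
  have hgne : g ≠ 1 := fun e => hk (U_T_inj hF (show U hF c d * T hF k = U hF 0 0 * T hF 1 by
    rw [← hg, e, U_zero, T_one, one_mul])).2.2
  have hmove : g • (U hF a b • pt m x y) = U hF a b • pt m x y := by
    rw [← mul_smul, hh, mul_smul, hxy]
  have hne : U hF a b • pt m x y ≠ pt m x y := fun e =>
    (U_fix hF (pt_mem_ovoid x y) e).elim (pt_ne_inf x y) h1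
  refine hgne (three_fixed hF hm g ⟨_, inf_mem_ovoid⟩ ⟨_, pt_mem_ovoid x y⟩
    ⟨_, smul_mem_ovoid (U hF a b) (pt_mem_ovoid x y)⟩ ?_ ?_ ?_ (Subtype.ext hinf) (Subtype.ext hxy)
    (Subtype.ext hmove))
  · exact fun e => pt_ne_inf x y (congrArg Subtype.val e).symm
  · exact fun e => hne (congrArg Subtype.val e).symm
  · intro e
    apply pt_ne_inf (m := m) x y
    exact MulAction.injective (U hF a b) ((congrArg Subtype.val e).symm.trans (U_smul_inf hF a b).symm)

theorem centralizer_T_le (hm : 1 ≤ m) {k : Fˣ} (hk : k ≠ 1) :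
    Subgroup.centralizer {T hF k} ≤ (THom hF).range := by
  intro h hh
  rw [Subgroup.mem_centralizer_singleton_iff] at hh
  have key : ∀ p ∈ Cfsg.suzukiOvoid F m, T hF k • p = p →
      h • p = Cfsg.suzukiPointInfinity F ∨ h • p = pt m 0 0 := by
    intro p hp hTp
    have : T hF k • (h • p) = h • p := by rw [← mul_smul, ← hh, mul_smul, hTp]
    rcases T_fix hF (smul_mem_ovoid h hp) this with e | e | e
    · exact Or.inl e
    · exact Or.inr e
    · exact absurd e hk
  rcases key _ inf_mem_ovoid (T_smul_inf hF k) with e1 | e1 <;>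
    rcases key _ (pt_mem_ovoid 0 0) (T_smul_zero hF k) with e2 | e2
  · exact absurd (MulAction.injective h (e1.trans e2.symm)) (pt_ne_inf 0 0).symm
  · obtain ⟨l, rfl⟩ := eq_T_of_fix hF hm h e1 e2
    exact ⟨l, rfl⟩
  · exfalso
    obtain ⟨l, hl⟩ := eq_T_of_fix hF hm (W hF * h) (by rw [mul_smul, e1, W_smul_zero])
      (by rw [mul_smul, e2, W_smul_inf])
    apply hk
    have hh' : h = W hF * T hF l := by rw [← hl, ← mul_assoc, W_mul_W, one_mul]
    rw [hh'] at hh
    have e1 : T hF k⁻¹ * (W hF * T hF l) = W hF * T hF l * T hF k := by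
      rw [← mul_assoc, ← W_mul_T, mul_assoc, ← T_mul, mul_comm, T_mul, mul_assoc]
    have h3 : k⁻¹ = k := T_inj hF (mul_right_cancel (e1.trans hh))
    have h5 : (k : F) ^ 2 = 1 ^ 2 := by
      rw [one_pow, pow_two, ← Units.val_mul, show k * k = 1 from by
        nth_rewrite 1 [← h3]; exact inv_mul_cancel k, Units.val_one]
    exact Units.ext (sq_inj hF h5)
  · exact absurd (MulAction.injective h (e1.trans e2.symm)) (pt_ne_inf 0 0).symm

theorem fpf_pow (hm : 1 ≤ m) {g : Cfsg.Sz F m} (hg : Fpf g) (j : ℕ) (hj : g ^ j ≠ 1) :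
    Fpf (g ^ j) := by
  have hcomm : g ∈ Subgroup.centralizer {g ^ j} := by
    rw [Subgroup.mem_centralizer_singleton_iff]
    exact (Commute.self_pow g j).eq
  rcases classify hF hm hj with h | ⟨a, b, h, h1, e⟩ | ⟨k, h, h1, e⟩
  · exact h
  all_goals
    exfalso
    rw [e, centralizer_conj] at hcomm
    obtain ⟨y, hy, hyg⟩ := hcomm
    apply hg (h • Cfsg.suzukiPointInfinity F) (smul_mem_ovoid _ inf_mem_ovoid)
    rw [← hyg]
    change (h * y * h⁻¹) • (h • Cfsg.suzukiPointInfinity F) = _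
    rw [mul_smul, mul_smul, inv_smul_smul]
    congr 1
  · obtain ⟨c, d, rfl⟩ := centralizer_U_le hF hm h1 hy
    exact U_smul_inf hF c d
  · obtain ⟨l, rfl⟩ := centralizer_T_le hF hm h1 hy
    exact T_smul_inf hF l

theorem prime_dvd_of_fpf_prime (hm : 1 ≤ m) {g : Cfsg.Sz F m} (hg : Fpf g) {p : ℕ} (hp : p.Prime)
    (hgp : orderOf g = p) : p ∣ Fintype.card F ^ 2 + 1 := by
  haveI : Fact p.Prime := ⟨hp⟩
  have hG : p ∣ Nat.card (Cfsg.Sz F m) := hgp ▸ orderOf_dvd_natCard g
  rw [card_Sz hF hm, ← hF] at hG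
  rcases hp.dvd_mul.1 hG with h | h
  · rcases hp.dvd_mul.1 h with h' | h'
    · exfalso
      -- `p = 2` and the number of points is odd
      have hp2 : p = 2 := by
        rw [hF] at h'
        exact (Nat.prime_dvd_prime_iff_eq hp Nat.prime_two).1 (hp.dvd_of_dvd_pow (hp.dvd_of_dvd_pow h'))
      have hfix : ∀ x : Cfsg.suzukiOvoid F m, x ∉ MulAction.fixedPoints (Subgroup.zpowers g) _ :=
        fun x hx => hg x.1 x.2 (congrArg Subtype.val (hx ⟨g, Subgroup.mem_zpowers g⟩))
      have hP : IsPGroup p (Subgroup.zpowers g) :=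
        IsPGroup.of_card (n := 1) (by rw [Nat.card_zpowers, hgp, pow_one])
      have hmod := hP.card_modEq_card_fixedPoints (Cfsg.suzukiOvoid F m)
      haveI : IsEmpty (MulAction.fixedPoints (Subgroup.zpowers g) (Cfsg.suzukiOvoid F m)) :=
        ⟨fun x => hfix x.1 x.2⟩
      rw [card_ovoid, Nat.card_of_isEmpty, hp2, Nat.modEq_zero_iff_dvd, ← even_iff_two_dvd] at hmod
      have := ((q_facts hF hm).2.pow_of_ne_zero (show (2 : ℕ) ≠ 0 by norm_num)).add_one
      exact Nat.not_even_iff_odd.2 this hmod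
    · exact h'
  · exfalso
    have hfix : ∀ x : Cfsg.suzukiOvoid F m, x ∉ MulAction.fixedPoints (Subgroup.zpowers g) _ :=
      fun x hx => hg x.1 x.2 (congrArg Subtype.val (hx ⟨g, Subgroup.mem_zpowers g⟩))
    have hP : IsPGroup p (Subgroup.zpowers g) :=
      IsPGroup.of_card (n := 1) (by rw [Nat.card_zpowers, hgp, pow_one])
    have hmod := hP.card_modEq_card_fixedPoints (Cfsg.suzukiOvoid F m)
    haveI : IsEmpty (MulAction.fixedPoints (Subgroup.zpowers g) (Cfsg.suzukiOvoid F m)) :=
      ⟨fun x => hfix x.1 x.2⟩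
    rw [card_ovoid, Nat.card_of_isEmpty, Nat.modEq_zero_iff_dvd] at hmod
    obtain ⟨e, he⟩ := q_facts hF hm
    have hsq : Fintype.card F ^ 2 + 1
        = (Fintype.card F - 1) * (Fintype.card F + 1) + 2 := by
      zify [show 1 ≤ Fintype.card F by omega]
      ring
    rw [hsq] at hmod
    have h2 : p ∣ 2 := (Nat.dvd_add_right (h.mul_right _)).1 hmod
    obtain rfl := (Nat.prime_dvd_prime_iff_eq hp Nat.prime_two).1 h2
    rw [← even_iff_two_dvd] at h
    exact Nat.not_even_iff_odd.2 (Nat.Even.sub_odd (by omega) he odd_one) h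

theorem fpf_of_prime_order (hm : 1 ≤ m) {g : Cfsg.Sz F m} {p : ℕ} (hp : p.Prime)
    (hgp : orderOf g = p) (hpd : p ∣ Fintype.card F ^ 2 + 1) : Fpf g := by
  have hg1 : g ≠ 1 := fun h => by rw [h, orderOf_one] at hgp; exact hp.one_lt.ne hgp
  have hnq : ¬ p ∣ Fintype.card F := fun h => hp.not_dvd_one
    ((Nat.dvd_add_right (dvd_pow h (by norm_num))).1 hpd)
  rcases classify hF hm hg1 with h | ⟨a, b, h, -, e⟩ | ⟨k, h, -, e⟩
  · exact h
  · exfalso
    have he : orderOf (U hF a b) = p := by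
      rw [← hgp, e]
      exact (orderOf_injective (MulAut.conj h).toMonoidHom (MulAut.conj h).injective _).symm
    have h2 : orderOf (U hF a b) ∣ 4 := by
      have h3 := Monoid.order_dvd_exponent (⟨U hF a b, a, b, rfl⟩ : USub hF)
      rw [exponent_USub] at h3
      rwa [← Subgroup.orderOf_coe] at h3
    rw [he] at h2
    have : p = 2 := (Nat.prime_dvd_prime_iff_eq hp Nat.prime_two).1
      (hp.dvd_of_dvd_pow (show p ∣ 2 ^ 2 by simpa using h2))
    subst this
    exact hnq (even_iff_two_dvd.1 (q_facts hF hm).2)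
  · exfalso
    have he : orderOf (T hF k) = p := by
      rw [← hgp, e]
      exact (orderOf_injective (MulAut.conj h).toMonoidHom (MulAut.conj h).injective _).symm
    have hkord : orderOf k = p := by
      rw [← he]
      exact (orderOf_injective (THom hF) (fun x y hxy => T_inj hF hxy) k).symm
    have hq1 : p ∣ Fintype.card F - 1 := by
      classical
      rw [← Fintype.card_units, ← hkord]
      exact orderOf_dvd_card
    obtain ⟨he', hev⟩ := q_facts hF hm
    have hsq : Fintype.card F ^ 2 + 1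
        = (Fintype.card F - 1) * (Fintype.card F + 1) + 2 := by
      zify [show 1 ≤ Fintype.card F by omega]
      ring
    rw [hsq] at hpd
    have h2 : p ∣ 2 := (Nat.dvd_add_right (hq1.mul_right _)).1 hpd
    obtain rfl := (Nat.prime_dvd_prime_iff_eq hp Nat.prime_two).1 h2
    exact hnq (even_iff_two_dvd.1 hev)

theorem not_dvd_pow_sub_one (hm : 1 ≤ m) {p : ℕ} (hp : p.Prime)
    (hpd : p ∣ Fintype.card F ^ 2 + 1) :
    ∀ d, 0 < d → d < 4 → ¬ p ∣ Fintype.card F ^ d - 1 := by
  intro d hd0 hd4 hd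
  obtain ⟨h8, heven⟩ := q_facts hF hm
  have hp2 : p ≠ 2 := fun h => by
    subst h
    exact hp.not_dvd_one ((Nat.dvd_add_right (dvd_pow (even_iff_two_dvd.1 heven) (by norm_num))).1 hpd)
  haveI : Fact p.Prime := ⟨hp⟩
  set q := Fintype.card F
  have h2 : ((q : ZMod p)) ^ 2 = -1 := by
    have := (ZMod.natCast_eq_zero_iff (q ^ 2 + 1) p).2 hpd
    push_cast at this
    linear_combination this
  have hd' : ((q : ZMod p)) ^ d = 1 := by
    have := (ZMod.natCast_eq_zero_iff (q ^ d - 1) p).2 hd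
    rw [Nat.cast_sub (Nat.one_le_pow _ _ (by omega))] at this
    push_cast at this
    linear_combination this
  have hne : (-1 : ZMod p) ≠ 1 := by
    intro h
    have h' : ((2 : ℕ) : ZMod p) = 0 := by push_cast; linear_combination -h
    exact hp2 ((Nat.prime_dvd_prime_iff_eq hp Nat.prime_two).1
      ((ZMod.natCast_eq_zero_iff _ _).1 h'))
  interval_cases d
  · rw [pow_one] at hd'; rw [hd', one_pow] at h2; exact hne h2.symm
  · exact hne (h2.symm.trans hd')
  · rw [pow_succ, h2] at hd'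
    have : (q : ZMod p) = -1 := by linear_combination -hd'
    rw [this] at h2
    exact hne (by linear_combination -h2)

/-- The matrix of an element. -/
def mat : Cfsg.Sz F m →* Matrix (Fin 4) (Fin 4) F where
  toFun g := (g : Matrix.SpecialLinearGroup (Fin 4) F).1
  map_one' := rfl
  map_mul' _ _ := rfl

omit hF in
theorem mat_injective : Function.Injective (mat (F := F) (m := m)) :=
  fun _ _ h => Subtype.ext (Subtype.ext h)

/-- Singer data for an element of prime order dividing `q² + 1`. -/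
theorem prime_centralizer (hm : 1 ≤ m) {x : Cfsg.Sz F m} {p : ℕ} (hp : p.Prime)
    (hxp : orderOf x = p) (hpd : p ∣ Fintype.card F ^ 2 + 1) :
    IsCyclic (Subgroup.centralizer {x}) ∧
    (∀ h : Cfsg.Sz F m, h * x * h⁻¹ ∈ Subgroup.centralizer {x} →
      ∃ i, i < 4 ∧ h * x * h⁻¹ = x ^ (Fintype.card F ^ i)) := by
  have hpF : (p : F) ≠ 0 := by
    haveI := charP_two hF
    rw [Ne, CharP.cast_eq_zero_iff F 2]
    intro h
    obtain rfl := ((Nat.prime_dvd_prime_iff_eq Nat.prime_two hp).1 h).symm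
    exact hp.not_dvd_one ((Nat.dvd_add_right
      (dvd_pow (even_iff_two_dvd.1 (q_facts hF hm).2) (by norm_num))).1 hpd)
  have hX1 : mat x ≠ 1 := fun h => by
    rw [← map_one (mat (F := F) (m := m))] at h
    rw [mat_injective h, orderOf_one] at hxp
    exact hp.one_lt.ne hxp
  obtain ⟨μ, hμ, φ, hφ, -, hcom, hgal⟩ := singer (mat x) hp hpF
    (by rw [← map_pow, ← hxp, pow_orderOf_eq_one, map_one]) hX1 (not_dvd_pow_sub_one hF hm hp hpd)
  haveI : Fact (Irreducible μ) := ⟨hμ⟩
  have hmem : ∀ y ∈ Subgroup.centralizer {x}, Commute (mat x) (mat y) := fun y hy => by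
    rw [Subgroup.mem_centralizer_singleton_iff] at hy
    rw [Commute, SemiconjBy, ← map_mul, ← map_mul, hy]
  constructor
  · choose c hc using fun y : Subgroup.centralizer {x} => hcom _ (hmem y y.2)
    refine isCyclic_of_injective_ringHom
      ({ toFun := c
         map_one' := hφ (by rw [hc, map_one]; simp)
         map_mul' := fun a b => hφ (by rw [hc, map_mul, hc, hc, Subgroup.coe_mul, map_mul]) } :
        Subgroup.centralizer {x} →* AdjoinRoot μ) fun a b h => ?_
    have h' : φ (c a) = φ (c b) := congrArg φ h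
    rw [hc, hc] at h'
    exact Subtype.ext (mat_injective h')
  · intro h hh
    obtain ⟨i, hi, he⟩ := hgal (mat (h * x * h⁻¹))
      ⟨mat h, mat h⁻¹, by rw [← map_mul, mul_inv_cancel, map_one],
        by rw [← map_mul, inv_mul_cancel, map_one]⟩ (hmem _ hh) (by simp [map_mul])
    exact ⟨i, hi, mat_injective (by rw [he, map_pow])⟩

/-- The torus through a fixed point free element. -/
theorem torus (hm : 1 ≤ m) {g : Cfsg.Sz F m} (hg : Fpf g) :
    IsCyclic (Subgroup.centralizer {g}) ∧
      (∀ u ∈ Subgroup.centralizer {g}, u ≠ 1 →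
        Fpf u ∧ Subgroup.centralizer {u} = Subgroup.centralizer {g}) := by
  have key : ∀ g : Cfsg.Sz F m, Fpf g → ∀ a ∈ Subgroup.centralizer {g},
      ∀ b ∈ Subgroup.centralizer {g}, a * b = b * a := by
    intro g hg a ha b hb
    obtain ⟨p, hp, hpd⟩ := Nat.exists_prime_and_dvd
      (show orderOf g ≠ 1 by rw [Ne, orderOf_eq_one_iff]; exact fpf_ne_one hg)
    have hx : orderOf (g ^ (orderOf g / p)) = p :=
      orderOf_pow_orderOf_div (orderOf_pos g).ne' hpd
    have hne : g ^ (orderOf g / p) ≠ 1 := fun h => by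
      rw [h, orderOf_one] at hx; exact hp.one_lt.ne hx
    have hxd := prime_dvd_of_fpf_prime hF hm (fpf_pow hF hm hg _ hne) hp hx
    haveI := (prime_centralizer hF hm hp hx hxd).1
    have hle : ∀ y ∈ Subgroup.centralizer {g}, y ∈ Subgroup.centralizer {g ^ (orderOf g / p)} := by
      intro y hy
      rw [Subgroup.mem_centralizer_singleton_iff] at hy ⊢
      exact ((show Commute y g from hy).pow_right _).eq
    obtain ⟨z, hz⟩ := IsCyclic.exists_generator (α := Subgroup.centralizer {g ^ (orderOf g / p)})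
    obtain ⟨i, hi⟩ := Subgroup.mem_zpowers_iff.1 (hz ⟨a, hle a ha⟩)
    obtain ⟨j, hj⟩ := Subgroup.mem_zpowers_iff.1 (hz ⟨b, hle b hb⟩)
    have e := (Commute.zpow_zpow_self z i j).eq
    rw [hi, hj] at e
    exact congrArg Subtype.val e
  constructor
  · obtain ⟨p, hp, hpd⟩ := Nat.exists_prime_and_dvd
      (show orderOf g ≠ 1 by rw [Ne, orderOf_eq_one_iff]; exact fpf_ne_one hg)
    have hx : orderOf (g ^ (orderOf g / p)) = p :=
      orderOf_pow_orderOf_div (orderOf_pos g).ne' hpd
    have hne : g ^ (orderOf g / p) ≠ 1 := fun h => by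
      rw [h, orderOf_one] at hx; exact hp.one_lt.ne hx
    have hxd := prime_dvd_of_fpf_prime hF hm (fpf_pow hF hm hg _ hne) hp hx
    haveI := (prime_centralizer hF hm hp hx hxd).1
    have hle : Subgroup.centralizer {g} ≤ Subgroup.centralizer {g ^ (orderOf g / p)} := by
      intro y hy
      rw [Subgroup.mem_centralizer_singleton_iff] at hy ⊢
      exact ((show Commute y g from hy).pow_right _).eq
    exact isCyclic_of_injective (Subgroup.inclusion hle) (Subgroup.inclusion_injective hle)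
  · intro u hu hu1
    have hgu : g ∈ Subgroup.centralizer {u} := by
      rw [Subgroup.mem_centralizer_singleton_iff] at hu ⊢
      exact hu.symm
    have hfu : Fpf u := by
      rcases classify hF hm hu1 with h | ⟨a, b, h, h1, e⟩ | ⟨k, h, h1, e⟩
      · exact h
      all_goals
        exfalso
        rw [e, centralizer_conj] at hgu
        obtain ⟨y, hy, hyg⟩ := hgu
        apply hg (h • Cfsg.suzukiPointInfinity F) (smul_mem_ovoid _ inf_mem_ovoid)
        rw [← hyg]
        change (h * y * h⁻¹) • (h • Cfsg.suzukiPointInfinity F) = _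
        rw [mul_smul, mul_smul, inv_smul_smul]
        congr 1
      · obtain ⟨c, d, rfl⟩ := centralizer_U_le hF hm h1 hy
        exact U_smul_inf hF c d
      · obtain ⟨l, rfl⟩ := centralizer_T_le hF hm h1 hy
        exact T_smul_inf hF l
    refine ⟨hfu, le_antisymm (fun y hy => ?_) (fun y hy => ?_)⟩
    · rw [Subgroup.mem_centralizer_singleton_iff]
      exact key u hfu y hy g hgu
    · rw [Subgroup.mem_centralizer_singleton_iff]
      exact key g hg y hy u hu

theorem isCNGroup (hm : 1 ≤ m) : Cfsg.IsCNGroup (Cfsg.Sz F m) := by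
  intro g hg
  rcases classify hF hm hg with h | ⟨a, b, h, h1, e⟩ | ⟨k, h, h1, e⟩
  · haveI := (torus hF hm h).1
    letI : CommGroup (Subgroup.centralizer {g}) := IsCyclic.commGroup
    exact inferInstance
  · rw [e, centralizer_conj]
    haveI : Fact (Nat.Prime 2) := ⟨Nat.prime_two⟩
    exact (((isPGroup_USub hF).to_le (centralizer_U_le hF hm h1)).map _).isNilpotent
  · rw [e, centralizer_conj]
    haveI : IsMulCommutative ((THom hF).range) := ⟨⟨fun a b => by
      obtain ⟨x, hx⟩ := a.2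
      obtain ⟨y, hy⟩ := b.2
      refine Subtype.ext ?_
      rw [Subgroup.coe_mul, Subgroup.coe_mul, ← hx, ← hy, ← map_mul, ← map_mul, mul_comm x y]⟩⟩
    haveI : IsMulCommutative (Subgroup.centralizer {T hF k}) := ⟨⟨fun a b => by
      have h2 := congrArg Subtype.val (mul_comm' (M := (THom hF).range)
        ⟨a, centralizer_T_le hF hm h1 a.2⟩ ⟨b, centralizer_T_le hF hm h1 b.2⟩)
      exact Subtype.ext h2⟩⟩
    letI : CommGroup (Subgroup.centralizer {T hF k}) :=
      { (inferInstance : Group _) with mul_comm := fun a b => mul_comm' a b }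
    exact Group.nilpotent_of_mulEquiv
      (Subgroup.equivMapOfInjective _ _ (MulAut.conj h).injective)

end Cfsg.Agent.Suzuki
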