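import Cfsg.Prelude.Def_LieExceptional

/-!
# The Suzuki–Tits ovoid and the standard elements of the Suzuki group
-/

set_option autoImplicit false

namespace Cfsg.Agent.Suzuki

open Matrix
open scoped Pointwise

variable {F : Type*} [Field F] {m : ℕ}

/-- The automorphism `σ : x ↦ x ^ 2^(m+1)`. -/
def sig (m : ℕ) (x : F) : F := x ^ (2 ^ (m + 1))

/-- The automorphism `ρ : x ↦ x ^ 2^m`, the square root of `σ`. -/
def rho (m : ℕ) (x : F) : F := x ^ (2 ^ m)

theorem rho_sq (x : F) : rho m x * rho m x = sig m x := by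
  simp [rho, sig, ← pow_add, pow_succ, mul_two]

theorem sig_mul (x y : F) : sig m (x * y) = sig m x * sig m y := mul_pow _ _ _
theorem rho_mul (x y : F) : rho m (x * y) = rho m x * rho m y := mul_pow _ _ _
theorem sig_one : sig m (1 : F) = 1 := one_pow _
theorem rho_one : rho m (1 : F) = 1 := one_pow _
theorem sig_zero : sig m (0 : F) = 0 := zero_pow (by positivity)
theorem sig_inv (x : F) : sig m x⁻¹ = (sig m x)⁻¹ := inv_pow _ _
theorem sig_pow (x : F) (n : ℕ) : sig m (x ^ n) = sig m x ^ n := by simp [sig, ← pow_mul, mul_comm]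
theorem sig_eq_zero {x : F} : sig m x = 0 ↔ x = 0 := by simp [sig]
theorem rho_ne_zero {x : F} (h : x ≠ 0) : rho m x ≠ 0 := pow_ne_zero _ h
theorem sig_ne_zero {x : F} (h : x ≠ 0) : sig m x ≠ 0 := pow_ne_zero _ h

section
variable [Fintype F] (hF : Fintype.card F = 2 ^ (2 * m + 1))
include hF

theorem charP_two : CharP F 2 := charP_of_card_eq_prime_pow hF

theorem two_eq_zero : (2 : F) = 0 := by
  haveI := charP_two hF
  exact CharTwo.two_eq_zero

theorem add_self (x : F) : x + x = 0 := by linear_combination x * two_eq_zero hF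

theorem eq_of_add_eq_zero {x y : F} (h : x + y = 0) : x = y := by
  linear_combination h - y * two_eq_zero hF

theorem sig_add (x y : F) : sig m (x + y) = sig m x + sig m y := by
  haveI := charP_two hF
  haveI : Fact (Nat.Prime 2) := ⟨Nat.prime_two⟩
  exact add_pow_char_pow x y 2 (m + 1)

theorem sig_sig (x : F) : sig m (sig m x) = x ^ 2 := by
  simp only [sig, ← pow_mul]
  rw [show 2 ^ (m + 1) * 2 ^ (m + 1) = Fintype.card F * 2 by rw [hF]; ring, pow_mul,
    FiniteField.pow_card]

theorem sq_inj {x y : F} (h : x ^ 2 = y ^ 2) : x = y := by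
  refine eq_of_add_eq_zero hF (pow_eq_zero_iff (n := 2) (by norm_num) |>.1 ?_)
  linear_combination h + (x * y + y ^ 2) * two_eq_zero hF

theorem sig_injective : Function.Injective (sig m : F → F) := fun x y h =>
  sq_inj hF (by rw [← sig_sig hF, ← sig_sig hF, h])

theorem eq_zero_or_one_of_sig_eq {x : F} (h : sig m x = x) : x = 0 ∨ x = 1 := by
  have h2 := sig_sig hF x
  rw [h, h] at h2
  have h3 : x * (x - 1) = 0 := by linear_combination -h2
  simpa [sub_eq_zero] using h3

theorem exists_ne_zero_one (hm : 1 ≤ m) : ∃ k : F, k ≠ 0 ∧ k ≠ 1 := by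
  classical
  by_contra hcon
  push Not at hcon
  have hsub : (Finset.univ : Finset F) ⊆ {0, 1} := fun x _ => by
    by_cases hx : x = 0
    · simp [hx]
    · simp [hcon x hx]
  have h2 := (Finset.card_le_card hsub).trans Finset.card_le_two
  rw [Finset.card_univ, hF] at h2
  have h3 := Nat.pow_le_pow_right (show 0 < 2 by norm_num) (show 2 ≤ 2 * m + 1 by omega)
  norm_num at h3
  omega

theorem eq_one_of_mul_sig {k : F} (h0 : k ≠ 0) (h : k * sig m k = 1) : k = 1 := by
  have h1 : sig m k = k⁻¹ := eq_inv_of_mul_eq_one_right h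
  have h2 := sig_sig hF k
  rw [h1, sig_inv, h1, inv_inv] at h2
  rcases mul_eq_zero.1 (show k * (k - 1) = 0 by linear_combination -h2) with h3 | h3
  · exact absurd h3 h0
  · exact sub_eq_zero.1 h3

end

/-- The function `f(x,y) = xy + x^(σ+2) + y^σ`. -/
def fz (m : ℕ) (x y : F) : F := x * y + sig m x * x ^ 2 + sig m y

theorem fz_eq (m : ℕ) (x y : F) :
    fz m x y = x * y + x ^ (2 ^ (m + 1) + 2) + y ^ (2 ^ (m + 1)) := by
  simp only [fz, sig]
  ring

/-- The vector of an affine ovoid point. -/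
def pv (m : ℕ) (x y : F) : Fin 4 → F := ![fz m x y, y, x, 1]

theorem pv_ne_zero (x y : F) : pv m x y ≠ 0 := fun h => by
  simpa [pv] using congrFun h 3

/-- The affine ovoid point with parameters `x, y`. -/
def pt (m : ℕ) (x y : F) : Projectivization F (Fin 4 → F) :=
  Projectivization.mk F (pv m x y) (pv_ne_zero x y)

theorem pt_zero : pt m (0 : F) 0 = Cfsg.suzukiPointZero F := by
  simp [pt, pv, fz, sig_zero, Cfsg.suzukiPointZero]

theorem mem_ovoid {p : Projectivization F (Fin 4 → F)} :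
    p ∈ Cfsg.suzukiOvoid F m ↔ p = Cfsg.suzukiPointInfinity F ∨ ∃ x y, p = pt m x y := by
  constructor
  · rintro ⟨v, hv, rfl, rfl | ⟨x, y, rfl⟩⟩
    · exact Or.inl rfl
    · exact Or.inr ⟨x, y, by simp [pt, pv, fz_eq]⟩
  · rintro (rfl | ⟨x, y, rfl⟩)
    · exact ⟨_, by simp, rfl, Or.inl rfl⟩
    · exact ⟨_, pv_ne_zero x y, rfl, Or.inr ⟨x, y, by simp [pv, fz_eq]⟩⟩

theorem inf_mem_ovoid : Cfsg.suzukiPointInfinity F ∈ Cfsg.suzukiOvoid F m :=
  mem_ovoid.2 (Or.inl rfl)

theorem pt_mem_ovoid (x y : F) : pt m x y ∈ Cfsg.suzukiOvoid F m :=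
  mem_ovoid.2 (Or.inr ⟨x, y, rfl⟩)

theorem pt_ne_inf (x y : F) : pt m x y ≠ Cfsg.suzukiPointInfinity F := by
  intro h
  obtain ⟨a, ha⟩ := (Projectivization.mk_eq_mk_iff' F _ _ _ _).1 h
  simpa [pv] using congrFun ha 3

theorem pt_inj {x y x' y' : F} (h : pt m x y = pt m x' y') : x = x' ∧ y = y' := by
  obtain ⟨a, ha⟩ := (Projectivization.mk_eq_mk_iff' F _ _ _ _).1 h
  have h3 : a = 1 := by simpa [pv] using congrFun ha 3
  subst h3
  exact ⟨by simpa [pv] using (congrFun ha 2).symm, by simpa [pv] using (congrFun ha 1).symm⟩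

/-- The ovoid in bijection with `F × F` plus one point. -/
noncomputable def ovoidEquiv (F : Type*) [Field F] (m : ℕ) :
    Option (F × F) ≃ Cfsg.suzukiOvoid F m :=
  Equiv.ofBijective
    (fun o => match o with
      | none => ⟨_, inf_mem_ovoid⟩
      | some (x, y) => ⟨_, pt_mem_ovoid x y⟩)
    (by
      refine ⟨fun a b h => ?_, fun ⟨p, hp⟩ => ?_⟩
      · match a, b, congrArg Subtype.val h with
        | none, none, _ => rfl
        | none, some (x, y), h => exact absurd h.symm (pt_ne_inf x y)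
        | some (x, y), none, h => exact absurd h (pt_ne_inf x y)
        | some (x, y), some (x', y'), h => obtain ⟨rfl, rfl⟩ := pt_inj h; rfl
      · rcases mem_ovoid.1 hp with rfl | ⟨x, y, rfl⟩
        · exact ⟨none, rfl⟩
        · exact ⟨some (x, y), rfl⟩)

theorem card_ovoid [Fintype F] (m : ℕ) :
    Nat.card (Cfsg.suzukiOvoid F m) = Fintype.card F ^ 2 + 1 := by
  rw [← Nat.card_congr (ovoidEquiv F m), Nat.card_eq_fintype_card, Fintype.card_option,
    Fintype.card_prod, pow_two]

section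
variable [Fintype F] (hF : Fintype.card F = 2 ^ (2 * m + 1))
include hF

theorem fz_eq_zero {x y : F} : fz m x y = 0 ↔ x = 0 ∧ y = 0 := by
  refine ⟨fun h => ?_, fun ⟨hx, hy⟩ => by simp [fz, hx, hy, sig_zero]⟩
  by_cases hx : x = 0
  · subst hx
    exact ⟨rfl, sig_eq_zero.1 (by simpa [fz, sig_zero] using h)⟩
  exfalso
  set t := y / (x * sig m x) with ht
  have hy : y = x * sig m x * t := by
    rw [ht]; field_simp [hx, sig_ne_zero hx]
  rw [fz, hy, sig_mul, sig_mul, sig_sig hF] at h
  have h1 : t + 1 + sig m t = 0 := by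
    have hne : sig m x * x ^ 2 ≠ 0 := mul_ne_zero (sig_ne_zero hx) (pow_ne_zero _ hx)
    refine (mul_eq_zero.1 (?_ : (sig m x * x ^ 2) * (t + 1 + sig m t) = 0)).resolve_left hne
    linear_combination h
  have h2 : sig m t + 1 + t ^ 2 = 0 := by
    have := congrArg (sig m) h1
    rwa [sig_add hF, sig_add hF, sig_sig hF, sig_zero, sig_one] at this
  rcases mul_eq_zero.1 (show t * (t - 1) = 0 by linear_combination h2 - h1) with h3 | h3
  · rw [h3, sig_zero] at h1; simp at h1
  · rw [sub_eq_zero.1 h3, sig_one] at h1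
    exact one_ne_zero (α := F) (by linear_combination h1 - two_eq_zero hF)

theorem fz_swap {x y : F} (h : fz m x y ≠ 0) :
    fz m (y / fz m x y) (x / fz m x y) = (fz m x y)⁻¹ := by
  have hs : sig m (fz m x y) = sig m x * sig m y + x ^ 2 * sig m x ^ 2 + y ^ 2 := by
    rw [fz, sig_add hF, sig_add hF, sig_mul, sig_mul, sig_sig hF, sig_sig hF, sig_pow]
  set f := fz m x y with hf
  have hsf : sig m f ≠ 0 := sig_ne_zero h
  have hdiv : ∀ a : F, sig m (a / f) = sig m a / sig m f := fun a => by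
    rw [div_eq_mul_inv, sig_mul, sig_inv, div_eq_mul_inv]
  rw [fz, hdiv, hdiv]
  field_simp
  rw [hs, show f = x * y + sig m x * x ^ 2 + sig m y from hf]
  linear_combination (x * y * sig m x * sig m y + x ^ 3 * y * sig m x ^ 2) * two_eq_zero hF

end

/-- The root element `M(a,b)`. -/
def umat (m : ℕ) (a b : F) : Matrix (Fin 4) (Fin 4) F :=
  !![1, a, b + a * sig m a, fz m a b; 0, 1, sig m a, b; 0, 0, 1, a; 0, 0, 0, 1]

theorem det_umat (m : ℕ) (a b : F) : (umat m a b).det = 1 := by
  simp [umat, Matrix.det_succ_row_zero, Fin.sum_univ_succ]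

/-- The root element `M(a,b)` in `SL₄`. -/
def uel (m : ℕ) (a b : F) : Matrix.SpecialLinearGroup (Fin 4) F := ⟨umat m a b, det_umat m a b⟩

/-- The torus element. -/
def tel (m : ℕ) (k : Fˣ) : Matrix.SpecialLinearGroup (Fin 4) F :=
  ⟨Matrix.diagonal ![rho m (k : F) * k, rho m (k : F), (rho m (k : F))⁻¹, (rho m (k : F) * k)⁻¹], by
    have h : rho m (k : F) ≠ 0 := rho_ne_zero k.ne_zero
    simp [Matrix.det_diagonal, Fin.prod_univ_four]
    field_simp⟩

/-- The involution exchanging the two base points. -/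
def wel (F : Type*) [Field F] : Matrix.SpecialLinearGroup (Fin 4) F :=
  ⟨!![0, 0, 0, 1; 0, 0, 1, 0; 0, 1, 0, 0; 1, 0, 0, 0], by
    simp [Matrix.det_succ_row_zero, Fin.sum_univ_succ, Fin.succAbove]
    norm_num⟩

theorem smul_mk' (g : Matrix.SpecialLinearGroup (Fin 4) F) {v w : Fin 4 → F} (hv : v ≠ 0)
    (hw : w ≠ 0) {c : F} (h : (g : Matrix (Fin 4) (Fin 4) F) *ᵥ v = c • w) :
    g • Projectivization.mk F v hv = Projectivization.mk F w hw := by
  rw [Projectivization.smul_mk, Projectivization.mk_eq_mk_iff']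
  exact ⟨c, h.symm⟩

theorem uel_smul_inf (a b : F) :
    uel m a b • Cfsg.suzukiPointInfinity F = Cfsg.suzukiPointInfinity F := by
  refine smul_mk' (c := 1) _ _ _ ?_
  ext i; fin_cases i <;> simp [uel, umat, Matrix.mulVec, dotProduct, Fin.sum_univ_four]

theorem tel_smul_inf (k : Fˣ) :
    tel m k • Cfsg.suzukiPointInfinity F = Cfsg.suzukiPointInfinity F := by
  refine smul_mk' (c := rho m (k : F) * k) _ _ _ ?_
  ext i; fin_cases i <;> simp [tel, Matrix.mulVec, dotProduct, Fin.sum_univ_four]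

theorem wel_smul_inf : wel F • Cfsg.suzukiPointInfinity F = pt m 0 0 := by
  refine smul_mk' (c := 1) _ _ _ ?_
  ext i; fin_cases i <;>
    simp [wel, pv, fz, sig_zero, Matrix.mulVec, dotProduct, Fin.sum_univ_four]

theorem wel_smul_zero : wel F • pt m 0 0 = Cfsg.suzukiPointInfinity F := by
  refine smul_mk' (c := 1) _ _ _ ?_
  ext i; fin_cases i <;>
    simp [wel, pv, fz, sig_zero, Matrix.mulVec, dotProduct, Fin.sum_univ_four]

section
variable [Fintype F] (hF : Fintype.card F = 2 ^ (2 * m + 1))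
include hF

theorem fz_add (a b x y : F) :
    fz m (x + a) (y + b + sig m a * x)
      = fz m x y + a * y + (b + a * sig m a) * x + fz m a b := by
  simp only [fz, sig_add hF, sig_mul, sig_sig hF]
  linear_combination (sig m a * x ^ 2 + a ^ 2 * sig m x + a * x * (sig m a + sig m x)) *
    two_eq_zero hF

theorem uel_smul_pt (a b x y : F) :
    uel m a b • pt m x y = pt m (x + a) (y + b + sig m a * x) := by
  refine smul_mk' (c := 1) _ _ _ ?_
  ext i; fin_cases i <;>
    simp [uel, umat, pv, fz_add hF, Matrix.mulVec, dotProduct, Fin.sum_univ_four] <;> ring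

theorem fz_scale (k x y : F) :
    fz m (k * x) (k * sig m k * y) = k ^ 2 * sig m k * fz m x y := by
  simp only [fz, sig_mul, sig_sig hF]
  ring

theorem tel_smul_pt (k : Fˣ) (x y : F) :
    tel m k • pt m x y = pt m ((k : F) * x) ((k : F) * sig m (k : F) * y) := by
  have hk := k.ne_zero
  have hr : rho m (k : F) ≠ 0 := rho_ne_zero hk
  refine smul_mk' (c := (rho m (k : F) * k)⁻¹) _ _ _ ?_
  ext i; fin_cases i <;>
    simp [tel, pv, fz_scale hF, Matrix.mulVec, dotProduct, Fin.sum_univ_four]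
  all_goals (try rw [← rho_sq])
  all_goals field_simp

theorem wel_smul_pt {x y : F} (h : fz m x y ≠ 0) :
    wel F • pt m x y = pt m (y / fz m x y) (x / fz m x y) := by
  refine smul_mk' (c := fz m x y) _ _ _ ?_
  ext i; fin_cases i <;>
    simp [wel, pv, fz_swap hF h, Matrix.mulVec, dotProduct, Fin.sum_univ_four]
  all_goals field_simp

end

end Cfsg.Agent.Suzuki
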