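import Cfsg.Agent.Lib.Suzuki.Basic

/-!
# Elements of prime order acting irreducibly on a four dimensional space
-/

set_option autoImplicit false

namespace Cfsg.Agent.Suzuki

open Polynomial
open scoped Matrix

/-- The data attached to a matrix `X` of prime order `p` when `|F|` has order four modulo `p`:
the centraliser of `X` is a field, and conjugates of `X` inside it are Galois conjugates. -/
theorem singer {F : Type*} [Field F] [Fintype F] (X : Matrix (Fin 4) (Fin 4) F) {p : ℕ}
    (hp : p.Prime) (hpF : (p : F) ≠ 0) (hXp : X ^ p = 1) (hX1 : X ≠ 1)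
    (hord : ∀ d, 0 < d → d < 4 → ¬ p ∣ Fintype.card F ^ d - 1) :
    ∃ μ : F[X], Irreducible μ ∧ ∃ φ : AdjoinRoot μ →+* Matrix (Fin 4) (Fin 4) F,
      Function.Injective φ ∧ φ (AdjoinRoot.root μ) = X ∧
      (∀ Y, Commute X Y → ∃ c, φ c = Y) ∧
      (∀ (Y : Matrix (Fin 4) (Fin 4) F) (h : (Matrix (Fin 4) (Fin 4) F)ˣ),
        Commute X Y → Y = h * X * (↑h⁻¹ : Matrix (Fin 4) (Fin 4) F) →
          ∃ i, i < 4 ∧ Y = X ^ (Fintype.card F ^ i)) := by
  classical
  haveI := Fact.mk hp
  set μ₀ := minpoly F X with hμ₀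
  have hint : IsIntegral F X := Matrix.isIntegral X
  have hdeg : μ₀.natDegree ≤ 4 := by
    have h1 := Polynomial.natDegree_le_of_dvd (Matrix.minpoly_dvd_charpoly X)
      (Matrix.charpoly_monic X).ne_zero
    rwa [Matrix.charpoly_natDegree_eq_dim, Fintype.card_fin] at h1
  set S : F[X] := ∑ i ∈ Finset.range p, Polynomial.X ^ i with hS
  have hgeom : S * (Polynomial.X - 1) = Polynomial.X ^ p - 1 := geom_sum_mul _ _
  have hncop : ¬ IsCoprime μ₀ S := by
    rintro ⟨u, v, huv⟩
    have h1 := congrArg (aeval X) huv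
    simp only [map_add, map_mul, map_one, hμ₀, minpoly.aeval, mul_zero, zero_add] at h1
    have h2 := congrArg (aeval X) hgeom
    simp only [map_mul, map_sub, aeval_X, map_one, map_pow, hXp, sub_self] at h2
    apply hX1
    rw [← sub_eq_zero]
    calc X - 1 = (aeval X v * aeval X S) * (X - 1) := by rw [h1, one_mul]
      _ = 0 := by rw [mul_assoc, h2, mul_zero]
  obtain ⟨μ, hirr, hμdvd, hμS⟩ : ∃ g : F[X], Irreducible g ∧ g ∣ μ₀ ∧ g ∣ S := by
    by_contra hcon
    push Not at hcon
    exact hncop (isCoprime_of_irreducible_dvd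
      (fun h => (minpoly.ne_zero hint) h.1) fun z hz hz1 hz2 => hcon z hz hz1 hz2)
  haveI : Fact (Irreducible μ) := ⟨hirr⟩
  have hμ0 : μ ≠ 0 := hirr.ne_zero
  haveI : Module.Finite F (AdjoinRoot μ) := (AdjoinRoot.powerBasis hμ0).finite
  haveI : Finite (AdjoinRoot μ) := Module.finite_of_finite F
  have hfinrank : Module.finrank F (AdjoinRoot μ) = μ.natDegree := by
    rw [(AdjoinRoot.powerBasis hμ0).finrank, AdjoinRoot.powerBasis_dim]
  have hcardK : Nat.card (AdjoinRoot μ) = Fintype.card F ^ μ.natDegree := by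
    rw [Module.natCard_eq_pow_finrank (K := F), hfinrank, Nat.card_eq_fintype_card]
  set z := AdjoinRoot.root μ with hz
  have hzS : aeval z S = 0 := by rw [hz, AdjoinRoot.aeval_eq, AdjoinRoot.mk_eq_zero]; exact hμS
  have hzp : z ^ p = 1 := by
    have h2 := congrArg (aeval z) hgeom
    simp only [map_mul, map_sub, aeval_X, map_one, map_pow, hzS, zero_mul] at h2
    exact sub_eq_zero.1 h2.symm
  have hz1 : z ≠ 1 := by
    intro h
    rw [h] at hzS
    simp only [hS, map_sum, map_pow, aeval_X, one_pow, Finset.sum_const, Finset.card_range,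
      nsmul_eq_mul, mul_one] at hzS
    exact hpF ((algebraMap F (AdjoinRoot μ)).injective (by rw [map_natCast, map_zero, hzS]))
  have hz0 : z ≠ 0 := fun h => by
    rw [h, zero_pow hp.ne_zero] at hzp
    exact zero_ne_one hzp
  have hordz : orderOf z = p := orderOf_eq_prime hzp hz1
  have hdvd : p ∣ Fintype.card F ^ μ.natDegree - 1 := by
    haveI := Fintype.ofFinite (AdjoinRoot μ)
    rw [← hcardK, Nat.card_eq_fintype_card, ← hordz]
    exact orderOf_dvd_of_pow_eq_one (FiniteField.pow_card_sub_one_eq_one z hz0)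
  have hμdeg4 : 4 ≤ μ.natDegree := by
    by_contra h
    exact hord _ hirr.natDegree_pos (by omega) hdvd
  have hassoc : Associated μ μ₀ := by
    refine associated_of_dvd_of_natDegree_le hμdvd (minpoly.ne_zero hint) ?_
    omega
  have hμdeg : μ.natDegree = 4 := le_antisymm
    ((Polynomial.natDegree_eq_of_degree_eq (Polynomial.degree_eq_degree_of_associated hassoc)).trans_le hdeg) hμdeg4
  have hμX : aeval X μ = 0 := by
    obtain ⟨c, hc⟩ := hassoc.symm.dvd
    rw [hc, map_mul, hμ₀, minpoly.aeval, zero_mul]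
  let φ : AdjoinRoot μ →+* Matrix (Fin 4) (Fin 4) F :=
    Ideal.Quotient.lift (Ideal.span {μ}) (aeval X).toRingHom fun a ha => by
      obtain ⟨c, rfl⟩ := Ideal.mem_span_singleton.1 ha
      simp [hμX]
  have hφmk : ∀ g : F[X], φ (AdjoinRoot.mk μ g) = aeval X g := fun g => Ideal.Quotient.lift_mk _ _ _
  have hφinj : Function.Injective φ := RingHom.injective φ
  have hφsmul : ∀ (a : F) (c : AdjoinRoot μ), φ (a • c) = a • φ c := by
    intro a c
    induction c using AdjoinRoot.induction_on with
    | ih g => rw [AdjoinRoot.smul_mk, hφmk, hφmk, map_smul]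
  have hcommutant : ∀ Y, Commute X Y → ∃ c, φ c = Y := by
    intro Y hY
    let v₀ : Fin 4 → F := Pi.single 0 1
    let ev : AdjoinRoot μ →ₗ[F] (Fin 4 → F) :=
      { toFun := fun c => φ c *ᵥ v₀
        map_add' := fun a b => by simp [Matrix.add_mulVec]
        map_smul' := fun a b => by simp [hφsmul, Matrix.smul_mulVec] }
    have hevinj : Function.Injective ev := by
      rw [injective_iff_map_eq_zero]
      intro c hc
      by_contra hc0
      have h1 : φ c⁻¹ *ᵥ (φ c *ᵥ v₀) = 0 := by
        rw [show φ c *ᵥ v₀ = 0 from hc, Matrix.mulVec_zero]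
      rw [Matrix.mulVec_mulVec, ← map_mul, inv_mul_cancel₀ hc0, map_one, Matrix.one_mulVec] at h1
      simpa [v₀] using congrFun h1 0
    have hevsurj : Function.Surjective ev :=
      (LinearMap.injective_iff_surjective_of_finrank_eq_finrank
        (by rw [hfinrank, hμdeg, Module.finrank_fintype_fun_eq_card, Fintype.card_fin])).1 hevinj
    obtain ⟨c, hc⟩ := hevsurj (Y *ᵥ v₀)
    have hcomm : ∀ d, Commute (φ d) Y := by
      intro d
      induction d using AdjoinRoot.induction_on with
      | ih g =>
        rw [hφmk]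
        induction g using Polynomial.induction_on' with
        | add a b ha hb => rw [map_add]; exact ha.add_left hb
        | monomial n a => rw [aeval_monomial]; exact (Algebra.commute_algebraMap_left a Y).mul_left (hY.pow_left n)
    refine ⟨c, Matrix.ext_of_mulVec_single fun i => ?_⟩
    obtain ⟨d, hd⟩ := hevsurj (Pi.single i 1)
    change φ d *ᵥ v₀ = Pi.single i 1 at hd
    rw [← hd, Matrix.mulVec_mulVec, Matrix.mulVec_mulVec, ← map_mul, mul_comm c d, map_mul,
      ← (hcomm d).eq, ← Matrix.mulVec_mulVec, ← Matrix.mulVec_mulVec]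
    change φ d *ᵥ (φ c *ᵥ v₀) = _
    rw [show φ c *ᵥ v₀ = Y *ᵥ v₀ from hc]
  refine ⟨μ, hirr, φ, hφinj, by rw [AdjoinRoot.root, hφmk, aeval_X], hcommutant, ?_⟩
  · intro Y h hY he
    obtain ⟨c, hc⟩ := hcommutant Y hY
    have hYμ : aeval Y μ = 0 := by
      have hconj : ∀ g : F[X], aeval Y g = h * aeval X g * (↑h⁻¹ : Matrix (Fin 4) (Fin 4) F) := by
        intro g
        induction g using Polynomial.induction_on' with
        | add a b ha hb => rw [map_add, map_add, ha, hb, mul_add, add_mul]
        | monomial n a =>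
          rw [aeval_monomial, aeval_monomial, he, Units.conj_pow]
          simp only [← mul_assoc]
          rw [Algebra.commutes a (h : Matrix (Fin 4) (Fin 4) F)]
      rw [hconj, hμX, mul_zero, zero_mul]
    have hcμ : aeval c μ = 0 := by
      apply hφinj
      rw [map_zero, ← hYμ, ← hc]
      have key : ∀ g : F[X], φ (aeval c g) = aeval (φ c) g := by
        intro g
        induction g using Polynomial.induction_on' with
        | add a b ha hb => simp [map_add, ha, hb]
        | monomial n a =>
          rw [aeval_monomial, aeval_monomial, ← Algebra.smul_def, ← Algebra.smul_def, hφsmul,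
            map_pow]
      exact key μ
    -- the roots of `μ`
    haveI := Fintype.ofFinite (AdjoinRoot μ)
    have hfrob : ∀ (w : AdjoinRoot μ) (g : F[X]),
        aeval (w ^ Fintype.card F) g = (aeval w g) ^ Fintype.card F := by
      intro w g
      rw [← map_pow, ← FiniteField.expand_card, expand_aeval]
    have hroot : ∀ i, aeval (z ^ (Fintype.card F ^ i)) μ = 0 := by
      intro i
      induction i with
      | zero => rw [pow_zero, pow_one, hz, AdjoinRoot.aeval_eq, AdjoinRoot.mk_self]
      | succ i ih => rw [pow_succ, pow_mul, hfrob, ih, zero_pow Fintype.card_ne_zero]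
    have hqp : ¬ p ∣ Fintype.card F := by
      intro hd
      obtain ⟨n, hn, hcard⟩ := FiniteField.card F (ringChar F)
      rw [hcard] at hd
      have := (Nat.prime_dvd_prime_iff_eq hp hn).1 (hp.dvd_of_dvd_pow hd)
      exact hpF (by rw [this]; exact ringChar.Nat.cast_ringChar)
    have hinj : ∀ i < 4, ∀ j < 4, i < j → z ^ (Fintype.card F ^ i) ≠ z ^ (Fintype.card F ^ j) := by
      intro i hi j hj hij e
      rw [(orderOf_pos_iff.1 (hordz ▸ hp.pos : 0 < orderOf z)).pow_eq_pow_iff_modEq, hordz, Nat.modEq_iff_dvd' (Nat.pow_le_pow_right Fintype.card_pos hij.le)] at e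
      rw [show Fintype.card F ^ j - Fintype.card F ^ i
        = Fintype.card F ^ i * (Fintype.card F ^ (j - i) - 1) by
          rw [Nat.mul_sub_one, ← pow_add, Nat.add_sub_cancel' hij.le]] at e
      rcases hp.dvd_mul.1 e with h1 | h1
      · exact hqp (hp.dvd_of_dvd_pow h1)
      · exact hord (j - i) (by omega) (by omega) h1
    set R := (μ.map (algebraMap F (AdjoinRoot μ))).roots.toFinset with hR
    set T := (Finset.range 4).image fun i => z ^ (Fintype.card F ^ i) with hT
    have hmemR : ∀ w, w ∈ R ↔ aeval w μ = 0 := by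
      intro w
      rw [hR, Multiset.mem_toFinset, mem_roots (map_ne_zero hμ0), IsRoot, eval_map_algebraMap]
    have hTR : T ⊆ R := by
      intro w hw
      obtain ⟨i, -, rfl⟩ := Finset.mem_image.1 hw
      exact (hmemR _).2 (hroot i)
    have hTcard : T.card = 4 := by
      rw [hT, Finset.card_image_of_injOn, Finset.card_range]
      intro i hi j hj e
      simp only [Finset.coe_range, Set.mem_Iio] at hi hj
      rcases lt_trichotomy i j with hlt | heq | hlt
      · exact absurd e (hinj i hi j hj hlt)
      · exact heq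
      · exact absurd e.symm (hinj j hj i hi hlt)
    have hRcard : R.card ≤ 4 := (Multiset.toFinset_card_le _).trans
      ((card_roots' _).trans (by rw [natDegree_map, hμdeg]))
    have hmem : c ∈ T := by
      rw [Finset.eq_of_subset_of_card_le hTR (by omega)]
      exact (hmemR c).2 hcμ
    obtain ⟨i, hi, hci⟩ := Finset.mem_image.1 hmem
    refine ⟨i, Finset.mem_range.1 hi, ?_⟩
    rw [← hc, ← hci, map_pow, hz, AdjoinRoot.root, hφmk, aeval_X]

end Cfsg.Agent.Suzuki
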